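import Cfsg.Agent.H483.Rad23.Base
import Cfsg.Agent.J3Type.Chain
import Cfsg.Agent.H898.J3Cent
import Cfsg.Agent.CpAutJThree.Row
import Cfsg.Agent.H269.CubeJ2
import Cfsg.Agent.H291.RowsF
import Cfsg.Agent.H58.HeOdd
import Cfsg.Agent.CTwoTab.He
import Cfsg.Agent.H287.OutHe
import Cfsg.Agent.H820.SL32
import Cfsg.Agent.OddHalf.D8.Sheet
import Cfsg.Agent.H173.RS.HN
import Cfsg.Agent.KFacts.HN.Sheet
import Cfsg.Agent.TitsK.ParC_m3
import Cfsg.Agent.OddHalf.DblR.HexG.Model_m3
import Cfsg.Agent.EvenType.ChevTwoTits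
import Cfsg.Agent.Omega.TwoF.TitsAut
import Cfsg.Agent.Mrg.Omega.TwoF.Tits
import Cfsg.Agent.H478.RadTools_m3
import Cfsg.Agent.R01.FiFacts
import Cfsg.Agent.Lib.SolvableMinNormal
import Cfsg.Agent.H833.F22Cnt
import Cfsg.Agent.R08.AutT
import Cfsg.Agent.R08.X4Gamma_m3
import Cfsg.Agent.KFacts.FiTTh.Has
import Cfsg.Agent.FastGrp
import Cfsg.Agent.Prune
set_option linter.all false

section
prune_inst 0x7ffefffbeff8bddeffff7e7ffefddffffdfcffffffdffbfbffedf3ffafdf6b67ffe5fbafffeed0ffbef6e2b630f87b53fffffeffef6fdc7ffffd5ff45fffffdfffffbdad11deb8be1f766ffffbf17f8e7f3fffffffffffffffffffffffffffffffffffffffff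

-- part: H383/R23/J3_mg
section
prune_inst 0x202210000000001000000020000000020040000000c00000000180000000000002000010000008000000000000000000021000000a000000000000000000020210400000000000000006000000000000000000000000000000000000000000000
set_option linter.all false
open scoped Cfsg.Agent.FastGrp

-- part: H383/R23/Tool
section
/-!
# Tools for the rows of order two of some sporadic groups (helper383, S3832/S4336)
-/

set_option autoImplicit false

namespace Cfsg.Agent.H383.R23

open Subgroup Cfsg Cfsg.Agent.H459.Rad Cfsg.Agent.H483.Rad23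

/-- a prime cycle length divides the order -/
theorem dvd_of_cycle {X : Type*} {c : Equiv.Perm X} {l : ℕ} (hl : l.Prime) {i : X} (h1 : (c ^ l) i = i)
    (h2 : c i ≠ i) : l ∣ orderOf c := by
  have h3 : MulAction.period c i ∣ l := MulAction.pow_smul_eq_iff_period_dvd.1 h1
  rcases (Nat.dvd_prime hl).1 h3 with h4 | h4
  · exfalso
    apply h2
    have h5 : c ^ 1 • i = i := MulAction.pow_smul_eq_iff_period_dvd.2 (h4 ▸ dvd_rfl)
    rwa [pow_one] at h5
  · rw [← h4]
    exact MulAction.period_dvd_orderOf c i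

/-- an element whose `l`-th power is one -/
theorem dvd_of_pow {X : Type*} [Group X] {c : X} {l : ℕ} (hl : l.Prime) (h1 : c ^ l = 1) (h2 : c ≠ 1) : l ∣ orderOf c := by
  have : Fact l.Prime := ⟨hl⟩
  rw [orderOf_eq_prime h1 h2]

variable {K : Type*} [Group K] [Finite K]

/-- an inner automorphism `conj k` with `k` conjugate to `t` and `[t, a]` of order divisible by `l ≥ 5` -/
theorem false_of_comm_dvd {k t a g : K} (h : TT (MulAut.conj k)) (hc : center K = ⊥) (hg : g * k * g⁻¹ = t)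
    {l : ℕ} (hl : l.Prime) (h5 : 5 ≤ l) (hd : l ∣ orderOf (t * a * t⁻¹ * a⁻¹)) : False := by
  refine h.not_dvd hc hl h5 (g⁻¹ * a * g) ?_
  have e : MulAut.conj k (g⁻¹ * a * g) * (g⁻¹ * a * g)⁻¹ = g⁻¹ * (t * a * t⁻¹ * a⁻¹) * g⁻¹⁻¹ := by
    rw [MulAut.conj_apply, ← hg]
    group
  rw [e, ← MulAut.conj_apply, MulEquiv.orderOf_eq]
  exact hd

end Cfsg.Agent.H383.R23
end

-- part: H383/R23/J3Loc
section
/-!
# Automorphisms of groups of type `J₃` fixing an involution (helper383, S3832/S4336)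

* `fix_v` : an automorphism of `2^{1+4}_- : A₅` trivial modulo `Q` is, up to an inner automorphism, the identity on `Q`;
* `eq_one_of_locG` : an automorphism `β` with `β m ∈ {m, z m}` for `m ∈ C(z)` is `1` or conjugation by `z`.
-/

set_option autoImplicit false

namespace Cfsg.Agent.H383.R23.J3Loc

open Cfsg Subgroup
open Cfsg.Agent.J2Type.Model Cfsg.Agent.J2Type.CStruct Cfsg.Agent.J3Type.PresDef Cfsg.Agent.J3Type.OneClass
  Cfsg.Agent.J3Type.Loc

section Model

variable {C : Type*} [Group C] {Q : Subgroup C} {z : C} {v : Fin 5 → C} {ρ : C →* SP}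

theorem perm_aux : ∀ i j : Fin 5, i ≠ j → ∃ σ : Equiv.Perm (Fin 5), Equiv.Perm.sign σ = 1 ∧ σ i = i ∧ σ j ≠ j := by
  decide +kernel

theorem v_ne (M : IsModel Q z v ρ) (i : Fin 5) : v i ≠ 1 ∧ v i ≠ z := by
  obtain ⟨j, hj⟩ : ∃ j : Fin 5, i ≠ j := by
    revert i; decide
  have h := M.v_anti i j hj
  constructor
  · intro h1
    rw [h1, one_mul, mul_one] at h
    exact M.z_ne (mul_eq_right.1 h.symm)
  · intro h1
    rw [h1, ← M.z_comm (v j), ← mul_assoc, ← M.z_comm (v j)] at h
    have h2 : v j * z = v j * z * z := h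
    exact M.z_ne (mul_eq_left.1 h2.symm)

/-- `ρ c` is determined by the action on the `v i` -/
theorem rho_eq (M : IsModel Q z v ρ) {c : C} {p : SP} (h : ∀ i, c * v i * c⁻¹ = zp z (p.s i) * v (p.σ i)) :
    ρ c = p := by
  have h1 : ∀ i, (ρ c).s i = p.s i ∧ (ρ c).σ i = p.σ i := fun i => M.v_inj _ _ _ _ ((M.conj c i).symm.trans (h i))
  have e1 : (ρ c).s = p.s := funext fun i => (h1 i).1
  have e2 : (ρ c).σ = p.σ := Equiv.ext fun i => (h1 i).2
  cases hc : ρ c with
  | mk a b =>
    cases p with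
    | mk a' b' =>
      rw [hc] at e1 e2
      simp only at e1 e2
      rw [e1, e2]

theorem fix_v (M : IsModel Q z v ρ) (θ : MulAut C) (hz : θ z = z) (hσ : ∀ c, (ρ (θ c)).σ = (ρ c).σ) :
    ∃ q : C, ∀ i, q * θ (v i) * q⁻¹ = v i := by
  have hQ : ∀ i, θ (v i) ∈ Q := by
    intro i
    rw [M.mem_Q, hσ, ← M.mem_Q]
    exact M.v_mem i
  have h1 : ∀ i, ∃ (a : ZMod 2) (j : Fin 5), θ (v i) = zp z a * v j := by
    intro i
    rcases invol_Q M (hQ i) (by rw [← map_mul, M.v_sq, map_one]) (fun h => (v_ne M i).1 (by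
      rw [← map_one θ] at h
      exact θ.injective h)) with h | h
    · exfalso
      apply (v_ne M i).2
      apply θ.injective
      rw [h, hz]
    · exact h
  choose a π hπ using h1
  have h2 : ∀ i, π i = i := by
    intro i
    by_contra hne
    obtain ⟨σ, hs, hi, hj⟩ := perm_aux i (π i) (Ne.symm hne)
    obtain ⟨c, hc⟩ := (M.range ⟨σ, 0⟩).2 ⟨hs, by simp⟩
    have e1 : c * v i * c⁻¹ = v i := by
      rw [M.conj, hc]
      show zp z 0 * v (σ i) = v i
      rw [zp_zero, one_mul, hi]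
    have e2 := congrArg θ e1
    rw [map_mul, map_mul, map_inv, hπ] at e2
    have e3 : θ c * (zp z (a i) * v (π i)) * (θ c)⁻¹ = zp z (a i) * (θ c * v (π i) * (θ c)⁻¹) := by
      have := zp_comm' M (a i) (θ c)
      calc θ c * (zp z (a i) * v (π i)) * (θ c)⁻¹ = (θ c * zp z (a i)) * v (π i) * (θ c)⁻¹ := by group
        _ = (zp z (a i) * θ c) * v (π i) * (θ c)⁻¹ := by rw [this]
        _ = _ := by group
    rw [e3, M.conj, ← mul_assoc, ← zp_add z M.z_sq] at e2
    have e4 := (M.v_inj _ _ _ _ e2).2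
    rw [hσ, hc] at e4
    exact hj e4
  have h3 : ∀ i, θ (v i) = zp z (a i) * v i := fun i => by rw [hπ, h2]
  have hsum : ∑ i, a i = 0 := by
    have e := congrArg θ M.v_prod
    rw [map_mul, map_mul, map_mul, map_mul, map_one, h3, h3, h3, h3, h3] at e
    have hz' : ∀ (b : ZMod 2) (c : C), c * zp z b = zp z b * c := fun b c => zp_comm' M b c
    have e5 : zp z (a 0 + a 1 + a 2 + a 3 + a 4) * (v 0 * v 1 * v 2 * v 3 * v 4) = 1 := by
      rw [← e, zp_add z M.z_sq, zp_add z M.z_sq, zp_add z M.z_sq, zp_add z M.z_sq]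
      have c1 := hz' (a 1) (v 0)
      have c2 := hz' (a 2) (v 0 * v 1)
      have c3 := hz' (a 3) (v 0 * v 1 * v 2)
      have c4 := hz' (a 4) (v 0 * v 1 * v 2 * v 3)
      calc zp z (a 0) * zp z (a 1) * zp z (a 2) * zp z (a 3) * zp z (a 4) * (v 0 * v 1 * v 2 * v 3 * v 4)
          = zp z (a 0) * zp z (a 1) * zp z (a 2) * zp z (a 3) * (zp z (a 4) * (v 0 * v 1 * v 2 * v 3)) * v 4 := by group
        _ = zp z (a 0) * zp z (a 1) * zp z (a 2) * (zp z (a 3) * (v 0 * v 1 * v 2)) * v 3 * zp z (a 4) * v 4 := by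
            rw [← c4]; group
        _ = zp z (a 0) * zp z (a 1) * (zp z (a 2) * (v 0 * v 1)) * v 2 * zp z (a 3) * v 3 * zp z (a 4) * v 4 := by
            rw [← c3]; group
        _ = zp z (a 0) * (zp z (a 1) * v 0) * v 1 * zp z (a 2) * v 2 * zp z (a 3) * v 3 * zp z (a 4) * v 4 := by
            rw [← c2]; group
        _ = _ := by rw [← c1]; group
    rw [M.v_prod, mul_one] at e5
    have e6 : a 0 + a 1 + a 2 + a 3 + a 4 = 0 := zp_inj M (by rw [e5, zp_zero])
    rw [Fin.sum_univ_five]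
    exact e6
  obtain ⟨q, hq⟩ := (M.range ⟨1, a⟩).2 ⟨by simp, hsum⟩
  refine ⟨q, fun i => ?_⟩
  have e1 : q * v i * q⁻¹ = zp z (a i) * v i := by
    rw [M.conj, hq]
    rfl
  have := zp_comm' M (a i) q
  rw [h3]
  calc q * (zp z (a i) * v i) * q⁻¹ = (q * zp z (a i)) * v i * q⁻¹ := by group
    _ = zp z (a i) * (q * v i * q⁻¹) := by rw [this]; group
    _ = (zp z (a i) * zp z (a i)) * v i := by rw [e1]; group
    _ = v i := by rw [zp_sq M, one_mul]

/-- an automorphism fixing `z` and the `v i` -/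
theorem eq_or (M : IsModel Q z v ρ) (θ : MulAut C) (hz : θ z = z) (hv : ∀ i, θ (v i) = v i) (c : C) :
    θ c = c ∨ θ c = z * c := by
  have hzp : ∀ b : ZMod 2, θ (zp z b) = zp z b := by
    intro b
    rcases zmod2_cases b with rfl | rfl
    · rw [zp_zero, map_one]
    · rw [zp_one, hz]
  have h1 : ρ (θ c) = ρ c := by
    apply rho_eq M
    intro i
    have e := congrArg θ (M.conj c i)
    rwa [map_mul, map_mul, map_inv, map_mul, hv, hv, hzp] at e
  have h2 : ρ (θ c * c⁻¹) = 1 := by rw [map_mul, map_inv, h1, mul_inv_cancel]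
  rcases (M.ker _).1 h2 with h | h
  · left; exact mul_inv_eq_one.1 h
  · right; rw [← h]; group

end Model

section Amal

variable {K : Type*} [Group K] {z y s c f g u h d w x v : K}

theorem dzd (L : LocG z y s c f g u h) (A : Amal z y s c f g u h d w x v) : d * z * d⁻¹ = z * y := by
  have h1 : d * z * d⁻¹ = s * y * s := by
    have e1 : (s * d * s) * z * (s * d * s)⁻¹ = y := by
      rw [A.ds, inv_inv, mul_inv_rev]
      calc d⁻¹ * c⁻¹ * z * (c * d) = d⁻¹ * (c⁻¹ * (z * c)) * d := by group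
        _ = d⁻¹ * (c⁻¹ * (c * z)) * d := by rw [A.zc]
        _ = d⁻¹ * z * d := by group
        _ = y := A.zd
    have hs : s⁻¹ = s := inv_eq_of_mul_eq_one_right A.s2
    have hzs : s * z * s = z := Cfsg.Agent.J3Type.ExistsD.szs L
    calc d * z * d⁻¹ = s * ((s * d * s) * z * (s * d * s)⁻¹) * s := by
          rw [mul_inv_rev, mul_inv_rev, hs]
          calc d * z * d⁻¹ = d * (s * z * s) * d⁻¹ := by rw [hzs]
            _ = (s * s) * d * s * z * (s * (d⁻¹)) * (s * s) := by rw [A.s2]; group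
            _ = _ := by group
      _ = s * y * s := by rw [e1]
  rw [h1, Cfsg.Agent.J3Type.ExistsD.sys L]

theorem in_V (L : LocG z y s c f g u h) {k : K} (kz : k * z = z * k) (kf : k * f = f * k) (kc : k * c = c * k) :
    k = 1 ∨ k = z ∨ k = y ∨ k = z * y := by
  obtain ⟨a, t, ha, ht, hk⟩ := L.cent_f k kz kf
  have hac : a * c = c * a := by
    rcases ha with rfl | rfl | rfl | rfl
    · rw [one_mul, mul_one]
    · exact L.zc
    · exact L.cy.symm
    · rw [mul_assoc, ← L.cy, ← mul_assoc, L.zc, mul_assoc]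
  have htc : t * c = c * t := by
    have h1 : a * (t * c) = a * (c * t) := by
      calc a * (t * c) = k * c := by rw [hk, mul_assoc]
        _ = c * k := kc
        _ = c * a * t := by rw [hk, mul_assoc]
        _ = a * (c * t) := by rw [← hac, mul_assoc]
    exact mul_left_cancel h1
  have hg2 := Cfsg.Agent.J3Type.ExistsD.g2 L
  have ht1 : t = 1 := by
    rcases ht with rfl | rfl | rfl | rfl
    · rfl
    · exact absurd htc.symm (Cfsg.Agent.J3Type.ExistsD.cf_ne L)
    · exfalso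
      have h1 := L.gc
      rw [mul_assoc, htc, ← mul_assoc, inv_mul_cancel, one_mul] at h1
      apply Cfsg.Agent.J3Type.ExistsD.f_ne1 L
      exact mul_eq_right.1 h1.symm
    · exfalso
      have h1 : c⁻¹ * (f * g) * c = f := by
        calc c⁻¹ * (f * g) * c = (c⁻¹ * f * c) * (c⁻¹ * g * c) := by group
          _ = g * (f * g) := by rw [← L.g_def, L.gc]
          _ = f * (g * g) := by rw [← mul_assoc, ← L.fg]; group
          _ = f := by rw [hg2, mul_one]
      rw [mul_assoc, htc, ← mul_assoc, inv_mul_cancel, one_mul] at h1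
      have h2 : g = 1 := mul_eq_left.1 h1
      have h3 := L.gc
      rw [h2, mul_one, inv_mul_cancel, mul_one] at h3
      exact Cfsg.Agent.J3Type.ExistsD.f_ne1 L h3.symm
  rw [ht1, mul_one] at hk
  rw [hk]
  exact ha

/-- **An automorphism which is trivial on the generators of `C(z)` is `1` or conjugation by `z`** -/
theorem eq_one_or (L : LocG z y s c f g u h) (A : Amal z y s c f g u h d w x v)
    (htop : closure ({c, f, h, s, d, w} : Set K) = ⊤) (β : MulAut K) (hz : β z = z) (hc : β c = c) (hf : β f = f)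
    (hh : β h = h) (hs : β s = s) : β = 1 ∨ β = MulAut.conj z := by
  have hy : β y = y := by rw [L.y_def, map_mul, map_mul, hh, hs]
  have hu : β u = u := by rw [L.u_def, map_mul, map_mul, hf, hs]
  have dz := dzd L A
  have hz1 := L.z_ne
  have hy1 := Cfsg.Agent.J3Type.ExistsD.y_ne1 L
  have hyz := Cfsg.Agent.J3Type.ExistsD.y_ne L
  have hz2 := L.z2
  have hy2 := Cfsg.Agent.J3Type.ExistsD.y2 L
  have hzy := L.zy
  -- `d⁻¹ (z y) d = z`, `d⁻¹ y d = z y`
  have d1 : d⁻¹ * (z * y) * d = z := by rw [← dz]; group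
  have d2 : d⁻¹ * y * d = z * y := by
    have e : d⁻¹ * y * d = (d⁻¹ * z * d)⁻¹ * (d⁻¹ * (z * y) * d) := by group
    rw [e, A.zd, d1, inv_eq_of_mul_eq_one_right hy2, hzy]
  -- the last step
  have key : ∀ γ : MulAut K, γ z = z → γ c = c → γ f = f → γ h = h → γ s = s → γ d = d → γ = 1 := by
    intro γ gz gc gf gh gs gd
    have hw' : γ w * γ w = 1 := by rw [← map_mul, A.w2, map_one]
    have e1 : γ w * c * γ w = d := by
      have := congrArg γ A.cw
      rwa [map_mul, map_mul, gc, gd] at this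
    have e2 : γ w * z * γ w = f := by
      have := congrArg γ A.zw
      rwa [map_mul, map_mul, gz, gf] at this
    obtain ⟨W, hW⟩ : ∃ W, W = γ w := ⟨_, rfl⟩
    rw [← hW] at hw' e1 e2
    have hWi : W⁻¹ = W := inv_eq_of_mul_eq_one_right hw'
    have hwi : w⁻¹ = w := inv_eq_of_mul_eq_one_right A.w2
    have swap : ∀ a b : K, W * a * W = b → W * b * W = a := by
      intro a b hab
      rw [← hab]
      calc W * (W * a * W) * W = (W * W) * a * (W * W) := by group
        _ = a := by rw [hw', one_mul, mul_one]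
    have swap' : ∀ a b : K, w * a * w = b → w * b * w = a := by
      intro a b hab
      rw [← hab]
      calc w * (w * a * w) * w = (w * w) * a * (w * w) := by group
        _ = a := by rw [A.w2, one_mul, mul_one]
    -- `j = w W` commutes with `z`, `f`, `c`, `d`
    have cm : ∀ a b : K, w * a * w = b → W * a * W = b → (w * W) * b = b * (w * W) := by
      intro a b h1 h2
      calc (w * W) * b = w * (W * b * W) * W := by
            calc (w * W) * b = w * (W * b) * (W * W) := by rw [hw']; group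
              _ = _ := by group
        _ = w * a * W := by rw [swap _ _ h2]
        _ = (w * a * w) * (w * W) := by
            calc w * a * W = w * a * (w * w) * W := by rw [A.w2, mul_one]
              _ = _ := by group
        _ = b * (w * W) := by rw [h1]
    have jf := cm z f A.zw e2
    have jz := cm f z (swap' _ _ A.zw) (swap _ _ e2)
    have jd := cm c d A.cw e1
    have jc := cm d c (swap' _ _ A.cw) (swap _ _ e1)
    have hj : w * W = 1 := by
      have jd' : d⁻¹ * (w * W) * d = w * W := by rw [mul_assoc, jd, ← mul_assoc, inv_mul_cancel, one_mul]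
      rcases in_V L jz jf jc with h1 | h1 | h1 | h1
      · exact h1
      · exfalso
        rw [h1, A.zd] at jd'
        exact hyz jd'
      · exfalso
        rw [h1, d2] at jd'
        exact hz1 (mul_eq_right.1 jd')
      · exfalso
        rw [h1, d1] at jd'
        exact hy1 (mul_eq_left.1 jd'.symm)
    have gw : γ w = w := by
      rw [← hW, ← hWi, ← hwi]
      rw [← mul_eq_one_iff_eq_inv.1 hj, hwi]
    have hle : closure ({c, f, h, s, d, w} : Set K) ≤ γ.toMonoidHom.eqLocus (MonoidHom.id K) := by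
      rw [closure_le]
      rintro a (rfl | rfl | rfl | rfl | rfl | rfl)
      exacts [gc, gf, gh, gs, gd, gw]
    rw [htop] at hle
    ext a
    exact hle (mem_top a)
  -- the element `k = β(d) d⁻¹`
  obtain ⟨D, hD⟩ : ∃ D, D = β d := ⟨_, rfl⟩
  have D1 : D⁻¹ * z * D = y := by
    have := congrArg β A.zd
    rwa [map_mul, map_mul, map_inv, hz, hy, ← hD] at this
  have D2 : c * D = D * c := by
    have := congrArg β A.cd
    rwa [map_mul, map_mul, hc, ← hD] at this
  have D3 : f * D = D * f := by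
    have := congrArg β A.fd
    rwa [map_mul, map_mul, hf, ← hD] at this
  have D4 : s * D * s = (c * D)⁻¹ := by
    have := congrArg β A.ds
    rwa [map_mul, map_mul, map_inv, map_mul, hs, hc, ← hD] at this
  obtain ⟨k, hk⟩ : ∃ k, k = D * d⁻¹ := ⟨_, rfl⟩
  have hDk : D = k * d := by rw [hk]; group
  have kz : k * z = z * k := by
    have e : d * (D⁻¹ * z * D) * d⁻¹ = d * (d⁻¹ * z * d) * d⁻¹ := by rw [D1, A.zd]
    have e' : k⁻¹ * z * k = z := by
      rw [hk]
      calc (D * d⁻¹)⁻¹ * z * (D * d⁻¹) = d * (D⁻¹ * z * D) * d⁻¹ := by group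
        _ = d * (d⁻¹ * z * d) * d⁻¹ := e
        _ = z := by group
    calc k * z = k * (k⁻¹ * z * k) := by rw [e']
      _ = z * k := by group
  have kc : k * c = c * k := by
    have h1 : d⁻¹ * c = c * d⁻¹ := by
      calc d⁻¹ * c = d⁻¹ * (c * d) * d⁻¹ := by group
        _ = c * d⁻¹ := by rw [A.cd]; group
    rw [hk]
    calc D * d⁻¹ * c = (D * c) * d⁻¹ := by rw [mul_assoc, h1, mul_assoc]
      _ = c * (D * d⁻¹) := by rw [← D2]; group
  have kf : k * f = f * k := by
    have h1 : d⁻¹ * f = f * d⁻¹ := by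
      calc d⁻¹ * f = d⁻¹ * (f * d) * d⁻¹ := by group
        _ = f * d⁻¹ := by rw [A.fd]; group
    rw [hk]
    calc D * d⁻¹ * f = (D * f) * d⁻¹ := by rw [mul_assoc, h1, mul_assoc]
      _ = f * (D * d⁻¹) := by rw [← D3]; group
  -- `s k s · (s d s) = (s d s) · k`
  have hk2 : k * k = 1 := by
    rcases in_V L kz kf kc with h1 | h1 | h1 | h1
    · rw [h1, one_mul]
    · rw [h1, hz2]
    · rw [h1, hy2]
    · rw [h1]
      calc z * y * (z * y) = z * (y * z) * y := by group
        _ = (z * z) * (y * y) := by rw [hzy]; group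
        _ = 1 := by rw [hz2, hy2, one_mul]
  have hki : k⁻¹ = k := inv_eq_of_mul_eq_one_right hk2
  have E : s * k * s = d⁻¹ * k * d := by
    have e1 : (s * k * s) * (s * d * s) = (s * d * s) * k := by
      calc (s * k * s) * (s * d * s) = s * (k * (s * s) * d) * s := by group
        _ = s * D * s := by rw [A.s2, mul_one, ← hDk]
        _ = (c * D)⁻¹ := D4
        _ = d⁻¹ * (k⁻¹ * c⁻¹) := by rw [hDk]; group
        _ = d⁻¹ * (c⁻¹ * k) := by
            rw [hki]
            congr 1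
            calc k * c⁻¹ = c⁻¹ * (c * k) * c⁻¹ := by group
              _ = c⁻¹ * k := by rw [← kc]; group
        _ = (c * d)⁻¹ * k := by group
        _ = (s * d * s) * k := by rw [A.ds]
    have e2 : s * k * s = (s * d * s) * k * (s * d * s)⁻¹ := by rw [← e1]; group
    rw [A.ds] at e2
    rw [e2, inv_inv]
    calc (c * d)⁻¹ * k * (c * d) = d⁻¹ * (c⁻¹ * (k * c)) * d := by group
      _ = d⁻¹ * k * d := by rw [kc]; group
  rcases in_V L kz kf kc with h1 | h1 | h1 | h1
  · left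
    refine key β hz hc hf hh hs ?_
    rw [← hD, hDk, h1, one_mul]
  · exfalso
    rw [h1, Cfsg.Agent.J3Type.ExistsD.szs L, A.zd] at E
    exact hyz E.symm
  · right
    have hzi : z⁻¹ = z := inv_eq_of_mul_eq_one_right hz2
    have cz : ∀ a : K, a * z = z * a → (MulAut.conj z)⁻¹ a = a := by
      intro a ha
      rw [← map_inv, MulAut.conj_apply, inv_inv, hzi, ← ha, mul_assoc, hz2, mul_one]
    have h2 : (MulAut.conj z)⁻¹ * β = 1 := by
      refine key _ ?_ ?_ ?_ ?_ ?_ ?_
      · rw [MulAut.mul_apply, hz, cz z rfl]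
      · rw [MulAut.mul_apply, hc, cz c L.zc.symm]
      · rw [MulAut.mul_apply, hf, cz f L.zf.symm]
      · rw [MulAut.mul_apply, hh, cz h L.zh.symm]
      · rw [MulAut.mul_apply, hs, cz s L.zs.symm]
      · rw [MulAut.mul_apply, ← hD, hDk, h1, ← map_inv, MulAut.conj_apply, inv_inv, hzi]
        have e3 : d * z = z * y * d := by rw [← dz]; group
        calc z * (y * d) * z = z * y * (d * z) := by group
          _ = z * y * (z * y * d) := by rw [e3]
          _ = (z * (y * z) * y) * d := by group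
          _ = ((z * z) * (y * y)) * d := by rw [hzy]; group
          _ = d := by rw [hz2, hy2, one_mul, one_mul]
    rw [← mul_one (MulAut.conj z), ← h2]
    group
  · exfalso
    rw [h1, d1] at E
    have e4 : s * (z * y) * s = y := by
      calc s * (z * y) * s = s * z * (s * s) * y * s := by rw [A.s2]; group
        _ = (s * z * s) * (s * y * s) := by group
        _ = z * (z * y) := by
          rw [Cfsg.Agent.J3Type.ExistsD.szs L, Cfsg.Agent.J3Type.ExistsD.sys L]
        _ = y := by rw [← mul_assoc, hz2, one_mul]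
    rw [e4] at E
    exact hyz E

end Amal

end Cfsg.Agent.H383.R23.J3Loc
end

-- part: H383/R23/J3
section
/-!
# The row of order two of `J₃` (helper383, S3832/S4336)

A radical automorphism of order two is inner (it fixes an involution `t`, acts trivially on `C(t) / O₂(C(t)) ≅ A₅`,
hence, up to an inner automorphism, trivially on the generators of the amalgam), and involutions invert elements of
order 17.
-/

set_option autoImplicit false

namespace Cfsg.Agent.H383.R23.J3

open Cfsg Subgroup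
open Cfsg.Agent.J2Type.Model Cfsg.Agent.J2Type.CStruct Cfsg.Agent.J3Type.PresDef Cfsg.Agent.J3Type.OneClass
  Cfsg.Agent.J3Type Cfsg.Agent.J3Type.Loc Cfsg.Agent.J3Type.Chain
open Cfsg.Agent.H459.Rad Cfsg.Agent.H483.Rad23

universe u

/-- generators of a group of type `J₃`, starting from any involution -/
theorem exists_gens {G : Type*} [Group G] [Finite G] (hJ : Nat.card G = 50232960) (t : G) (hM : HasModel t)
    (hone : ∀ x y : G, orderOf x = 2 → orderOf y = 2 → IsConj x y) :
    ∃ y s c f g u h d w x v : G, LocG t y s c f g u h ∧ Amal t y s c f g u h d w x v ∧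
      closure ({c, f, h, s, d, w} : Set G) = ⊤ := by
  have hMall : ∀ t' : G, orderOf t' = 2 → HasModel t' := by
    intro t' ht'
    obtain ⟨g, hg⟩ := isConj_iff.mp (hone t t' hM.1 ht')
    exact hM.conj g hg
  obtain ⟨ht, hcard, Q, v, ρ, M⟩ := hM
  have hconj : ∀ a : G, a * a = 1 → a ≠ 1 → ∃ k : G, k * t * k⁻¹ = a := by
    intro a h1 h2
    exact isConj_iff.mp (hone t a ht (Chain.orderOf_two h1 h2))
  have hv0 : ((v 0 : Subgroup.centralizer ({t} : Set G)) : G) ≠ 1 :=
    fun h => (J3Loc.v_ne M 0).1 (Subtype.ext h)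
  obtain ⟨o, ho2, hoQ⟩ := exists_outer M 0 (hconj _ (congrArg Subtype.val (M.v_sq 0)) hv0)
  obtain ⟨y, s, c, f, g, u, h, L, hcl, hgen⟩ := LocPlus.exists_locG_plus t M rfl o hoQ ho2
  have hz1 := L.z_ne
  have hs1 : s ≠ 1 := by
    intro h1
    have h2 := L.sy
    have h3 := L.y_def
    rw [h1] at h2 h3
    rw [one_mul] at h2
    rw [mul_one, L.h2] at h3
    rw [h3] at h2
    exact hz1 (by rw [← h2]; group)
  have hy1 : y ≠ 1 := by
    intro h1
    have h2 := L.sy
    rw [h1, mul_one, L.s2] at h2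
    exact hz1 h2.symm
  have hf1 : f ≠ 1 := by
    intro h1
    have h2 := L.fu
    rw [h1, one_mul, L.toCEl.u2] at h2
    exact hz1 h2.symm
  obtain ⟨k, hk⟩ := hconj y L.toCEl.y2 hy1
  obtain ⟨d, d3, cd, fd, ds, zd⟩ := ExistsD.exists_d L k⁻¹ (by rw [inv_inv]; exact hk)
  obtain ⟨k', hk'⟩ := hconj f L.f2 hf1
  obtain ⟨w, w2, cw, zw, wu⟩ := InvWLoc.exists_w_loc L (Finish.hout L hcl) d3 cd fd ds zd
    ⟨k', by rw [← hk']; group⟩
  have A : Amal t y s c f g u h d w (c * d⁻¹) (h * (c * d⁻¹) * h) :=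
    { toCEl := L.toCEl, d3 := d3, cd := cd, fd := fd, ds := ds, zd := zd, w2 := w2, cw := cw, zw := zw,
      wu := wu, x_def := rfl, v_def := rfl }
  have hdisj := Extra.extra A hz1 hMall
  set K := Subgroup.closure ({t, y, f, g, u, w, c, d} : Set G) with hK
  have hKm : ∀ a ∈ ({t, y, f, g, u, w, c, d} : Set G), a ∈ K := fun a ha => Subgroup.subset_closure ha
  have hKcard := (Pres.card_N_le A).2
  rw [← hK] at hKcard
  have hrel := Pres.rel_of_disj A (K := K) (hKm _ (by simp)) (hKm _ (by simp)) (hKm _ (by simp))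
    (hKm _ (by simp)) (hKm _ (by simp)) (hKm _ (by simp)) (hKm _ (by simp)) (hKm _ (by simp)) (by
      rintro ⟨hh, hs⟩
      have hle : Subgroup.centralizer ({t} : Set G) ≤ K := by
        refine hgen.trans ?_
        rw [Subgroup.closure_le]
        rintro a (rfl | rfl | rfl | rfl)
        · exact hKm _ (by simp)
        · exact hKm _ (by simp)
        · exact hh
        · exact hs
      have h1 := Subgroup.card_dvd_of_le hle
      rw [hcard] at h1
      have h2 : Nat.card K = 1920 := by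
        obtain ⟨m, hm⟩ := h1
        have hpos : 0 < Nat.card K := Nat.card_pos
        have : m = 1 := by
          rcases Nat.lt_or_ge m 2 with h | h
          · interval_cases m
            · omega
            · rfl
          · omega
        rw [hm, this]
      have h3 : Subgroup.centralizer ({t} : Set G) = K :=
        Subgroup.eq_of_le_of_card_ge hle (by rw [h2, hcard])
      have h4 : w ∈ Subgroup.centralizer ({t} : Set G) := by rw [h3]; exact hKm _ (by simp)
      have h5 : w * t = t * w := Subgroup.mem_centralizer_singleton_iff.mp h4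
      have h6 : t = f := by rw [← zw, h5, mul_assoc, w2, mul_one]
      have h7 := L.fu
      rw [← h6] at h7
      apply hz1
      calc t = t * u * (t * u) := h7.symm
        _ = t * u * (u * t) := by rw [L.zu]
        _ = t * (u * u) * t := by group
        _ = 1 := by rw [L.toCEl.u2, mul_one, L.z2]) hdisj
  obtain ⟨F, hF1, hF2, ω, hF4, hω⟩ := exists_F4
  have hJ' : Cfsg.Spor.IsoJ3 (Subgroup.closure ({c, f, h, s, d, w} : Set G)) :=
    ⟨F, hF1, hF2, ω, hF4, hω, Iso.iso_of_amal A hs1 hrel hF4 hω⟩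
  refine ⟨y, s, c, f, g, u, h, d, w, _, _, L, A, ?_⟩
  have h1 := (Cfsg.Agent.H898.J3Cent.base hJ').2.1
  exact Subgroup.eq_top_of_card_eq _ (by rw [h1, hJ])

/-- an automorphism of order two fixes an involution -/
theorem exists_fixed {K : Type*} [Group K] [Finite K] (x : MulAut K) (hx : orderOf x = 2) (h2 : 2 ∣ Nat.card K) :
    ∃ t : K, orderOf t = 2 ∧ x t = t := by
  have : Fact (Nat.Prime 2) := ⟨Nat.prime_two⟩
  have hp : IsPGroup 2 ↥(zpowers x) := IsPGroup.of_card (n := 1) (by rw [Nat.card_zpowers, hx, pow_one])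
  have h1 := hp.card_modEq_card_fixedPoints K
  let F : Subgroup K :=
    { carrier := {t | x t = t}
      one_mem' := map_one x
      mul_mem' := fun {a b} ha hb => by
        show x (a * b) = a * b
        rw [map_mul, show x a = a from ha, show x b = b from hb]
      inv_mem' := fun {a} ha => by
        show x a⁻¹ = a⁻¹
        rw [map_inv, show x a = a from ha] }
  have h3 : Nat.card (MulAction.fixedPoints ↥(zpowers x) K) = Nat.card F := by
    refine Nat.card_congr (Equiv.subtypeEquivRight fun t => ?_)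
    rw [MulAction.mem_fixedPoints]
    constructor
    · intro h
      exact h ⟨x, mem_zpowers x⟩
    · rintro h ⟨g, hg⟩
      have hz : zpowers x ≤ MulAction.stabilizer (MulAut K) t := by
        rw [zpowers_le]
        exact h
      exact hz hg
  rw [h3] at h1
  have h4 : 2 ∣ Nat.card F := (Nat.modEq_zero_iff_dvd.1 (h1.symm.trans (Nat.modEq_zero_iff_dvd.2 h2)))
  obtain ⟨t, ht⟩ := exists_prime_orderOf_dvd_card' (G := F) 2 h4
  exact ⟨t, by rw [← ht, Subgroup.orderOf_coe], t.2⟩

theorem alt_five : ¬ Group.IsSolvable (alternatingGroup (Fin 5)) := by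
  intro h
  apply Equiv.Perm.fin_5_not_solvable
  refine Group.isSolvable_of_ker_le_range (alternatingGroup (Fin 5)).subtype (Equiv.Perm.sign (α := Fin 5)) ?_
  rw [Subgroup.range_subtype]
  exact fun g hg => hg

/-- the homomorphism to `A₅` -/
theorem exists_hom {C : Type*} [Group C] {Q : Subgroup C} {z : C} {v : Fin 5 → C} {ρ : C →* SP}
    (M : IsModel Q z v ρ) : ∃ φ : C →* alternatingGroup (Fin 5), Function.Surjective φ ∧
      ∀ c, ((φ c : alternatingGroup (Fin 5)) : Equiv.Perm (Fin 5)) = (ρ c).σ := by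
  have hs : ∀ c, Equiv.Perm.sign (ρ c).σ = 1 := fun c => ((M.range (ρ c)).1 ⟨c, rfl⟩).1
  refine ⟨{ toFun := fun c => ⟨(ρ c).σ, Equiv.Perm.mem_alternatingGroup.2 (hs c)⟩
            map_one' := Subtype.ext (by
              show (ρ 1).σ = 1
              rw [map_one]
              rfl)
            map_mul' := fun a b => Subtype.ext (by
              show (ρ (a * b)).σ = (ρ a).σ * (ρ b).σ
              rw [map_mul]
              rfl) }, ?_, fun c => rfl⟩
  rintro ⟨σ, hσ⟩
  obtain ⟨c, hc⟩ := (M.range ⟨σ, 0⟩).2 ⟨Equiv.Perm.mem_alternatingGroup.1 hσ, by simp⟩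
  exact ⟨c, Subtype.ext (by show (ρ c).σ = σ; rw [hc])⟩

theorem inner_of_rc {K : Type u} [Group K] (h : Spor.IsoJ3 K) (x : MulAut K) (hx : orderOf x = 2) (hR : RC x) :
    ∃ g : K, x = MulAut.conj g := by
  obtain ⟨hcK, hM, hone, -⟩ := Cfsg.Agent.CpAutJThree.base h
  have hs : IsSimpleGroup K := (Cfsg.Agent.H898.J3Cent.base h).1
  have hfin : Finite K := Nat.finite_of_card_ne_zero (by rw [hcK]; norm_num)
  have hcen : center K = ⊥ := Cfsg.Agent.H269.CubeTools.center_bot_of_simple (by rw [hcK]; norm_num)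
  obtain ⟨t, ht, hxt⟩ := exists_fixed x hx (by rw [hcK]; norm_num)
  have ht1 : t ≠ 1 := by
    rintro rfl
    rw [orderOf_one] at ht
    exact absurd ht (by norm_num)
  obtain ⟨y, s, c, f, g, u, h', d, w, x', v', L, A, htop⟩ := exists_gens hcK t (hM t ht) hone
  obtain ⟨-, hcard, Q, v, ρ, M⟩ := hM t ht
  have hxM : ∀ m ∈ centralizer ({t} : Set K), x m ∈ centralizer ({t} : Set K) := by
    intro m hm
    rw [mem_centralizer_singleton_iff] at hm ⊢
    have := congrArg x hm
    rwa [map_mul, map_mul, hxt] at this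
  have htop' : centralizer ({t} : Set K) ≠ ⊤ := by
    intro h1
    have h2 : t ∈ center K := by
      rw [mem_center_iff]
      intro g
      exact mem_centralizer_singleton_iff.1 (h1 ▸ mem_top g)
    rw [hcen, mem_bot] at h2
    exact ht1 h2
  have hxx : ∀ a, x (x a) = a := by
    intro a
    have h1 : x * x = 1 := by rw [← pow_two, ← hx, pow_orderOf_eq_one]
    exact congrArg (fun φ : MulAut K => φ a) h1
  let θ : MulAut ↥(centralizer ({t} : Set K)) :=
    { toFun := fun m => ⟨x m, hxM m m.2⟩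
      invFun := fun m => ⟨x m, hxM m m.2⟩
      left_inv := fun m => Subtype.ext (hxx m)
      right_inv := fun m => Subtype.ext (hxx m)
      map_mul' := fun a b => Subtype.ext (map_mul x _ _) }
  obtain ⟨φ, hφ, hφρ⟩ := exists_hom M
  have hA5 : ¬ Group.IsSolvable (alternatingGroup (Fin 5)) := alt_five
  have hrad : solvableRadical (alternatingGroup (Fin 5)) = ⊥ := rad_eq_bot_of_simple hA5
  have hσ : ∀ c, (ρ (θ c)).σ = (ρ c).σ := by
    intro c
    rw [← hφρ, ← hφρ]
    exact congrArg Subtype.val (hR.map_eq htop' hxM φ hφ hrad c)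
  have hzt : θ (zc t) = zc t := Subtype.ext hxt
  obtain ⟨q, hq⟩ := J3Loc.fix_v M θ hzt hσ
  let β : MulAut K := MulAut.conj (q : K) * x
  have hqt : (q : K) * t = t * q := mem_centralizer_singleton_iff.1 q.2
  have hβt : β t = t := by
    show MulAut.conj (q : K) (x t) = t
    rw [hxt, MulAut.conj_apply, hqt, mul_inv_cancel_right]
  have hβ : ∀ m : K, m * t = t * m → β m = m ∨ β m = t * m := by
    intro m hm
    have hm' : m ∈ centralizer ({t} : Set K) := mem_centralizer_singleton_iff.2 hm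
    have h1 := J3Loc.eq_or M (MulAut.conj q * θ) (by
      rw [MulAut.mul_apply, hzt, MulAut.conj_apply]
      apply Subtype.ext
      show (q : K) * t * (q : K)⁻¹ = t
      rw [hqt, mul_inv_cancel_right]) (fun i => by
      rw [MulAut.mul_apply, MulAut.conj_apply]
      exact hq i) ⟨m, hm'⟩
    rcases h1 with h1 | h1
    · left
      exact congrArg Subtype.val h1
    · right
      exact congrArg Subtype.val h1
  have htt : t * t = 1 := L.z2
  have hβc : β c = c := by
    rcases hβ c L.zc.symm with h1 | h1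
    · exact h1
    · exfalso
      have e := congrArg β L.c3
      rw [map_mul, map_mul, h1, map_one] at e
      apply ht1
      have hc : c * t = t * c := L.zc.symm
      calc t = t * (c * c * c) := by rw [L.c3, mul_one]
        _ = t * c * (t * t * c) * c := by rw [htt]; group
        _ = t * c * (t * (t * c)) * c := by group
        _ = t * c * (t * (c * t)) * c := by rw [hc]
        _ = t * c * (t * c) * (t * c) := by group
        _ = 1 := e
  have tri : ∀ a b : K, a * t = t * a → b * t = t * b → β a = a → a * b * (a * b) * (a * b) = 1 → β b = b := by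
    intro a b ha hb hβa hab
    rcases hβ b hb with h1 | h1
    · exact h1
    · exfalso
      have e := congrArg β hab
      rw [map_mul, map_mul, map_mul, hβa, h1, map_one] at e
      apply ht1
      have hc : a * b * t = t * (a * b) := by rw [mul_assoc, hb, ← mul_assoc, ha, mul_assoc]
      have e2 : a * (t * b) = t * (a * b) := by rw [← mul_assoc, ha, mul_assoc]
      rw [e2] at e
      calc t = t * (a * b * (a * b) * (a * b)) := by rw [hab, mul_one]
        _ = t * (a * b) * (t * t * (a * b)) * (a * b) := by rw [htt]; group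
        _ = t * (a * b) * (t * (t * (a * b))) * (a * b) := by group
        _ = t * (a * b) * (t * (a * b * t)) * (a * b) := by rw [hc]
        _ = t * (a * b) * (t * (a * b)) * (t * (a * b)) := by group
        _ = 1 := e
  have hβf : β f = f := tri c f L.zc.symm L.zf.symm hβc L.cf
  have hβh : β h' = h' := tri f h' L.zf.symm L.zh.symm hβf L.fh
  have hβg : β g = g := by rw [L.g_def, map_mul, map_mul, map_inv, hβc, hβf]
  have hβs : β s = s := by
    rcases hβ s L.zs.symm with h1 | h1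
    · exact h1
    · exfalso
      have hst : s * t = t * s := L.zs.symm
      have hβy : β y = t * y := by
        rw [L.y_def, map_mul, map_mul, hβh, h1]
        rw [← mul_assoc h' t s, L.zh.symm]
        group
      have comm : ∀ a b : K, a * t = t * a → a * (t * b) = t * (a * b) := by
        intro a b ha
        rw [← mul_assoc, ha, mul_assoc]
      have e := congrArg β L.prod
      simp only [map_mul, h1, hβy, hβf, hβg, hβt] at e
      have hf := L.zf.symm
      have hg := L.zg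
      have tl : ∀ a : K, t * (t * a) = a := fun a => by rw [← mul_assoc, htt, one_mul]
      have hp := L.prod
      simp only [mul_assoc] at e hp
      simp only [comm _ _ hf, comm _ _ hg, comm _ _ hst, tl] at e
      rw [hp, htt] at e
      exact ht1 e.symm
  have hfinal : ∃ g : K, β = MulAut.conj g := by
    rcases J3Loc.eq_one_or L A htop β hβt hβc hβf hβh hβs with h1 | h1
    · exact ⟨1, by rw [h1, map_one]⟩
    · exact ⟨t, h1⟩
  obtain ⟨g₀, hg₀⟩ := hfinal
  refine ⟨(q : K)⁻¹ * g₀, ?_⟩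
  rw [map_mul, map_inv, ← hg₀]
  show x = (MulAut.conj (q : K))⁻¹ * (MulAut.conj (q : K) * x)
  rw [inv_mul_cancel_left]

/-- an involution normalising but not centralising a group of order 17 inverts it -/
theorem inv_seventeen {K : Type*} [Group K] {y i : K} (hy : orderOf y = 17) (hi : i * i = 1)
    (hn : i * y * i⁻¹ ∈ zpowers y) (hc : i * y ≠ y * i) : i * y * i⁻¹ = y⁻¹ := by
  obtain ⟨k, hk⟩ := mem_zpowers_iff.1 hn
  have h1 : y ^ (k * k) = y := by
    have h3 : i * y ^ k * i⁻¹ = (i * y * i⁻¹) ^ k := by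
      rw [← MulAut.conj_apply, map_zpow, MulAut.conj_apply]
    calc y ^ (k * k) = (y ^ k) ^ k := zpow_mul y k k
      _ = (i * y * i⁻¹) ^ k := by rw [hk]
      _ = i * y ^ k * i⁻¹ := h3.symm
      _ = i * (i * y * i⁻¹) * i⁻¹ := by rw [hk]
      _ = (i * i) * y * (i * i)⁻¹ := by group
      _ = y := by rw [hi, one_mul, inv_one, mul_one]
  have h2 : (17 : ℤ) ∣ k * k - 1 := by
    have h3 : y ^ (k * k - 1) = 1 := by rw [zpow_sub, h1, zpow_one, mul_inv_cancel]
    have h4 := orderOf_dvd_iff_zpow_eq_one.2 h3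
    rwa [hy] at h4
  have h3 : k * k - 1 = (k - 1) * (k + 1) := by ring
  rw [h3] at h2
  have hp : Prime (17 : ℤ) := by
    have : Nat.Prime 17 := by norm_num
    exact Nat.prime_iff_prime_int.1 this
  rcases hp.dvd_or_dvd h2 with h4 | h4
  · exfalso
    apply hc
    have h5 : y ^ (k - 1) = 1 := orderOf_dvd_iff_zpow_eq_one.1 (by rw [hy]; exact h4)
    rw [zpow_sub, zpow_one, mul_inv_eq_one] at h5
    rw [h5] at hk
    calc i * y = (i * y * i⁻¹) * i := by group
      _ = y * i := by rw [← hk]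
  · have h5 : y ^ (k + 1) = 1 := orderOf_dvd_iff_zpow_eq_one.1 (by rw [hy]; exact h4)
    rw [zpow_add, zpow_one] at h5
    rw [← hk]
    exact eq_inv_of_mul_eq_one_left h5

theorem row2_j3 {K : Type u} [Group K] [Finite K] [IsSimpleGroup K] (h : Cfsg.Spor.IsoJ3 K) : Row23 2 K := by
  obtain ⟨hcK, -, hone, -⟩ := Cfsg.Agent.CpAutJThree.base h
  have hcen : center K = ⊥ := Cfsg.Agent.H269.CubeTools.center_bot_of_simple (by rw [hcK]; norm_num)
  intro x hx hR hP hT
  obtain ⟨a, rfl⟩ := inner_of_rc h x hx hR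
  rw [orderOf_injective _ (H839.Rad.conj_injective hcen)] at hx
  have : Fact (Nat.Prime 17) := ⟨by norm_num⟩
  have : Fact (Nat.Prime 2) := ⟨Nat.prime_two⟩
  obtain ⟨y, hy⟩ := exists_prime_orderOf_dvd_card' (G := K) 17 (by rw [hcK]; norm_num)
  obtain ⟨h1, h2⟩ := Cfsg.Agent.H898.J3Cent.seventeen h hy
  obtain ⟨⟨i, hiN⟩, hi⟩ := exists_prime_orderOf_dvd_card'
    (G := ↥(normalizer ((zpowers y : Subgroup K) : Set K))) 2 (by rw [h2]; norm_num)
  rw [Subgroup.orderOf_mk] at hi
  have hii : i * i = 1 := by rw [← pow_two, ← hi, pow_orderOf_eq_one]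
  have hinv : i * y * i⁻¹ = y⁻¹ := by
    refine inv_seventeen hy hii ((mem_normalizer_iff.1 hiN y).1 (mem_zpowers y)) fun hc => ?_
    have h3 : orderOf (⟨i, mem_centralizer_singleton_iff.2 hc⟩ : ↥(centralizer ({y} : Set K))) = 2 := by
      rw [Subgroup.orderOf_mk, hi]
    have h4 := orderOf_dvd_natCard (⟨i, mem_centralizer_singleton_iff.2 hc⟩ : ↥(centralizer ({y} : Set K)))
    rw [h3, h1] at h4
    exact absurd h4 (by norm_num)
  obtain ⟨g, hg⟩ := isConj_iff.1 (hone i a hi hx)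
  refine hT.no_inv hcen (by norm_num : Nat.Prime 17) (by norm_num) (y := g * y * g⁻¹) ?_ ?_
  · rw [← MulAut.conj_apply, MulEquiv.orderOf_eq, hy]
  · rw [MulAut.conj_apply, ← hg]
    calc g * i * g⁻¹ * (g * y * g⁻¹) * (g * i * g⁻¹)⁻¹ = g * (i * y * i⁻¹) * g⁻¹ := by group
      _ = g * y⁻¹ * g⁻¹ := by rw [hinv]
      _ = (g * y * g⁻¹)⁻¹ := by group

end Cfsg.Agent.H383.R23.J3
end

-- part: H815/Row2Inner
section
/-!
# The rows `p = 2` of the radical automorphisms: general lemmas (helper815, for helper483)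

* `inner_false` : an inner automorphism induced by a conjugate of `u` is not `TT` if `u` inverts an element of
  prime order at least five;
* `fix_top` : a radical automorphism fixing `s` centralizes the largest perfect subgroup of `C(s)`, if quasisimple.
-/

set_option autoImplicit false

namespace Cfsg.Agent.H815.Row2

open Subgroup Cfsg Cfsg.Agent.H459.Rad Cfsg.Agent.H459.Iface Cfsg.Agent.H483.Rad23
open Cfsg.Agent.SignalizersComponents
open Cfsg.Agent.H291.RowsE (TopP)

universe u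

theorem inner_false {K : Type*} [Group K] [Finite K] {k u y : K} (hc : center K = ⊥) (hT : TT (MulAut.conj k))
    (hk : IsConj u k) {l : ℕ} (hl : l.Prime) (h5 : 5 ≤ l) (hy : orderOf y = l) (huy : u * y * u⁻¹ = y⁻¹) : False := by
  obtain ⟨g, rfl⟩ := isConj_iff.1 hk
  refine hT.no_inv hc hl h5 (y := g * y * g⁻¹) ?_ ?_
  · rw [← hy]
    exact (MulAut.conj g).orderOf_eq y
  · rw [MulAut.conj_apply]
    calc g * u * g⁻¹ * (g * y * g⁻¹) * (g * u * g⁻¹)⁻¹ = g * (u * y * u⁻¹) * g⁻¹ := by group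
      _ = (g * y * g⁻¹)⁻¹ := by rw [huy]; group

/-- the product of two conjugate involutions -/
theorem inv_mul_conj {K : Type*} [Group K] {u t : K} (hu : u * u = 1) :
    u * (u * (t * u * t⁻¹)) * u⁻¹ = (u * (t * u * t⁻¹))⁻¹ := by
  have h1 : u⁻¹ = u := inv_eq_of_mul_eq_one_left hu
  rw [mul_inv_rev, mul_inv_rev, mul_inv_rev, inv_inv, h1, ← mul_assoc, ← mul_assoc, ← mul_assoc, ← mul_assoc, hu,
    one_mul]

theorem center_eq_bot {K : Type*} [Group K] [Finite K] [hs : IsSimpleGroup K] (hn : ¬ Group.IsSolvable K) :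
    center K = ⊥ := by
  rcases (inferInstance : (center K).Normal).eq_bot_or_eq_top with h | h
  · exact h
  · exfalso
    apply hn
    have h1 : ∀ a b : K, a * b = b * a := fun a b => (mem_center_iff.1 (h ▸ mem_top b : b ∈ center K) a)
    exact Group.isSolvable_of_comm h1

/-- an automorphism of order two which is radical and fixes `s` -/
theorem fix_top {K : Type u} [Group K] [Finite K] {x : MulAut K} (h : RC x) {s : K} (hs : x s = s) {N : Subgroup K}
    (T : TopP K s N) (hN : N ≠ ⊤) (hq : IsQuasisimple N) {m : K} (hm : m ∈ N) : x m = m :=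
  h.eq_of_quasisimple hN (fun _ hy => H291.RowsE.map_mem hs T hy) hq hm

end Cfsg.Agent.H815.Row2
end

-- part: H815/Row2HeInn
section
/-!
# Involutions of `He` invert elements of order 5 (helper815, for helper483: row `p = 2`)
-/

set_option autoImplicit false
set_option maxRecDepth 100000

namespace Cfsg.Agent.H815.Row2He

open Subgroup Cfsg Cfsg.Spor Cfsg.Spor.He Cfsg.Agent.SporadicB.HePerm Cfsg.Agent.FixBN.HeStab
open Cfsg.Agent.H58.HeOdd
open Cfsg.Agent.H815.Row2

/-- `(c d)^2` -/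
def y1 : List Gen := [.c, .d, .c, .d]

/-- a word conjugating `a` to `c` -/
def ga : List Gen := [.d, .c, .d, .c, .b, .f, .d, .g, .c, .d, .f, .e, .d, .c, .b]

theorem k1 : (chkB (pw y1 5) [] && !(chkB y1 []) && chkB (cj [.c] y1) (iv y1) &&
    chkB (cj ga [.a]) [.c]) = true := by decide +kernel

/-- the word of `z` -/
def zl : List Gen := HeldHe.Model.W 5 ++ (HeldHe.Model.W 1 ++ (HeldHe.Model.W 2 ++ (HeldHe.Model.W 0 ++
  (HeldHe.Model.W 5 ++ (HeldHe.Model.W 1 ++ (HeldHe.Model.W 2 ++ HeldHe.Model.W 0))))))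

/-- the conjugating word -/
def tl : List Gen := [.c, .d, .g]

theorem k2 : (chkB (pw (zl ++ cj tl zl) 5) [] && !(chkB (zl ++ cj tl zl) []) && chkB (zl ++ zl) []) = true := by
  decide +kernel

theorem z_eq : CTwoTab.He.z = wd zl := by
  have h : CTwoTab.He.z = KFacts.He.Bound.z := rfl
  rw [h]
  unfold KFacts.He.Bound.z KFacts.He.Words.xr
  show SporadicRecognition.CosetCert.ev HeldHe.Model.L0 [5, 1, 2, 0, 5, 1, 2, 0] = _
  unfold zl
  simp only [SporadicRecognition.CosetCert.ev_cons, SporadicRecognition.CosetCert.ev_nil, mul_one, wd_app]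
  rfl

theorem inv_a : ∃ y : Cfsg.Spor.He, orderOf y = 5 ∧ wd [.c] * y * (wd [.c])⁻¹ = y⁻¹ := by
  have h := k1
  simp only [Bool.and_eq_true, Bool.not_eq_true'] at h
  obtain ⟨⟨⟨h1, h2⟩, h3⟩, -⟩ := h
  have e1 : wd y1 ^ 5 = 1 := by rw [← wd_pw]; exact eq_of_chkB h1
  have e2 : wd y1 ≠ 1 := by rw [← wd_nil']; exact ne_of_chkB h2
  have hp : Fact (Nat.Prime 5) := ⟨by norm_num⟩
  refine ⟨wd y1, orderOf_eq_prime e1 e2, ?_⟩
  rw [← wd_cj, ← wd_iv]
  exact eq_of_chkB h3

theorem conj_ac : IsConj (wd [.a] : Cfsg.Spor.He) (wd [.c]) := by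
  have h := k1
  simp only [Bool.and_eq_true, Bool.not_eq_true'] at h
  obtain ⟨-, h4⟩ := h
  rw [isConj_iff]
  refine ⟨wd ga, ?_⟩
  rw [← wd_cj]
  exact eq_of_chkB h4

theorem inv_z : ∃ y : Cfsg.Spor.He, orderOf y = 5 ∧ CTwoTab.He.z * y * (CTwoTab.He.z)⁻¹ = y⁻¹ := by
  have h := k2
  simp only [Bool.and_eq_true, Bool.not_eq_true'] at h
  obtain ⟨⟨h1, h2⟩, h3⟩ := h
  have e1 : wd (zl ++ cj tl zl) ^ 5 = 1 := by rw [← wd_pw]; exact eq_of_chkB h1
  have e2 : wd (zl ++ cj tl zl) ≠ 1 := by rw [← wd_nil']; exact ne_of_chkB h2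
  have e3 : wd zl * wd zl = 1 := by rw [← wd_app]; exact eq_of_chkB h3
  have hp : Fact (Nat.Prime 5) := ⟨by norm_num⟩
  rw [wd_app, wd_cj] at e1 e2
  rw [z_eq]
  exact ⟨_, orderOf_eq_prime e1 e2, inv_mul_conj e3⟩

end Cfsg.Agent.H815.Row2He
end

-- part: H815/Row2He
section
/-!
# Radical involutory automorphisms of `He` (helper815, for helper483: row `p = 2`)
-/

set_option autoImplicit false
set_option maxRecDepth 100000

namespace Cfsg.Agent.H815.Row2He

open Subgroup Cfsg Cfsg.Agent.H459.Rad Cfsg.Agent.H459.Iface Cfsg.Agent.H483.Rad23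
open Cfsg.Agent.H815.Row2
open Cfsg.Agent.SporadicRecognition.HeldModel Cfsg.Agent.KFacts.TwoSix.Base
  Cfsg.Agent.KFacts.TwoSix.Facts Cfsg.Agent.OddHalf.D8 Cfsg.Agent.KFacts.TwoSix.Aut
  Cfsg.Agent.Held.AffineIso
open Cfsg.Agent.H287.OutHe Cfsg.Agent.OddHalf.UT5.Model

/-- **an automorphism exchanging `R1`, `R2` acts on `L₃(2)`** -/
theorem no_swap {b : CC ≃* CC} (h1 : ∀ e ∈ A1, b e ∈ A2) (hq : ∀ t, b t * t⁻¹ ∈ Q) : False := by
  have key : ∀ t : CC, ∀ r ∈ A1, t * r = r * t → Commute (π t) (π (b r)) := by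
    intro t r hr htr
    have k1 : Commute (π (b t)) (π (b r)) := by
      have h4 := congrArg (fun y => π (b y)) htr
      simp only [map_mul] at h4
      exact h4
    have k2 : Commute (π (b t * t⁻¹)) (π (b r)) := comm_Q (hq t) (A2_le_Q (h1 _ hr))
    have k3 : π t = (π (b t * t⁻¹))⁻¹ * π (b t) := by
      rw [map_mul, map_inv]
      group
    rw [k3]
    exact k2.inv_left.mul_left k1
  have hA : ∀ j : Fin 5, j ≠ 0 → rt 0 j ∈ A1 := by
    intro j hj
    obtain ⟨i, rfl⟩ := Fin.exists_succ_eq.2 hj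
    rw [← rC_single]
    exact ro_mem_R1 _
  have hval : ∀ j : Fin 5, j = 2 ∨ j = 3 → π (b (rt 0 j)) = 1 ∨ π (b (rt 0 j)) = π (rt 1 4) := by
    intro j hj
    have hj0 : j ≠ 0 := by rcases hj with rfl | rfl <;> decide
    refine cases_A2 (h1 _ (hA j hj0)) (key _ _ (hA j hj0) ?_) (key _ _ (hA j hj0) ?_)
    · apply rt_comm
      · rcases hj with rfl | rfl <;> decide
      · rcases hj with rfl | rfl <;> decide
    · apply rt_comm
      · rcases hj with rfl | rfl <;> decide
      · rcases hj with rfl | rfl <;> decide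
  obtain ⟨n2, n3, n23⟩ := not_mem_ZZ
  have v2 : π (b (rt 0 2)) = π (rt 1 4) :=
    (hval 2 (Or.inl rfl)).resolve_left fun h => n2 (of_b_ZZ (π_eq_one.1 h))
  have v3 : π (b (rt 0 3)) = π (rt 1 4) :=
    (hval 3 (Or.inr rfl)).resolve_left fun h => n3 (of_b_ZZ (π_eq_one.1 h))
  apply n23
  apply of_b_ZZ (b := b)
  rw [← π_eq_one, map_mul, map_mul, v2, v3, ← map_mul, rt_sq, map_one]

/-- a radical automorphism fixing `z` is trivial on `C(z) / O₂(C(z))` -/
theorem triv_quo {G : Type*} [Group G] [Finite G] [IsSimpleGroup G] {z : G} {ι : CC →* G} (h : Hyp z ι)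
    (hns : ¬ Group.IsSolvable G) {ψ : MulAut G} (hR : RC ψ) {b : CC ≃* CC} (hb : ∀ u, ι (b u) = ψ (ι u)) (t : CC) :
    b t * t⁻¹ ∈ Q := by
  have hM : ι.range ≠ ⊤ := by
    intro hM
    apply Held.Pattern.z_ne_one h
    rw [← Subgroup.mem_bot, ← center_eq_bot hns, mem_center_iff]
    intro g
    obtain ⟨u, rfl⟩ : g ∈ ι.range := by rw [hM]; exact mem_top g
    exact OddHalf.UT5.KBasic.comm_z h u
  have hx : ∀ m ∈ ι.range, ψ m ∈ ι.range := by
    rintro _ ⟨u, rfl⟩
    exact ⟨b u, hb u⟩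
  have hs : IsSimpleGroup L3 := H820.SL32.isSimple
  have hfin : Finite L3 := H820.SL32.finite
  have hL : ¬ Group.IsSolvable L3 := by
    intro hsol
    obtain ⟨x, y, hxy⟩ := H820.SL32.noncomm
    exact hxy (IsSimpleGroup.comm_iff_isSolvable.2 hsol x y)
  let e : CC ≃* ι.range := MonoidHom.ofInjective h.inj
  have key := hR.map_eq hM hx (toL3.comp e.symm.toMonoidHom)
    (toL3_surjective.comp e.symm.surjective) (rad_eq_bot_of_simple hL) (e t)
  have h1 : (⟨ψ (e t), hx _ (e t).2⟩ : ι.range) = e (b t) := Subtype.ext (hb t).symm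
  rw [h1] at key
  have h2 : toL3 (b t) = toL3 t := by
    have h3 : toL3 (e.symm (e (b t))) = toL3 (e.symm (e t)) := key
    rwa [e.symm_apply_apply, e.symm_apply_apply] at h3
  show b t * t⁻¹ ∈ QQ.subgroupOf CC
  rw [← toL3_ker, MonoidHom.mem_ker, map_mul, map_inv, h2, mul_inv_cancel]

/-- a radical automorphism of order two fixing `z` is inner -/
theorem inner_of_fix_z {G : Type*} [Group G] [Finite G] [IsSimpleGroup G] {z : G} {ι : CC →* G} (h : Hyp z ι)
    (hns : ¬ Group.IsSolvable G) {ψ : MulAut G} (hR : RC ψ) (hz : ψ z = z) : ∃ g, ψ = MulAut.conj g := by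
  obtain ⟨b, hb⟩ := OddHalf.UT5.KBasic.exists_b h ψ hz
  rcases KFacts.TwoSix.AutCC.aut b with ⟨c, hc | hc⟩
  · obtain ⟨k, hk⟩ := OddHalf.UT5.KBasic.inner_of h (α := ψ) (c := c)
      (fun u => by rw [← hb, hc, map_mul, map_mul, map_inv])
    exact ⟨k, hk.symm⟩
  · exfalso
    refine no_swap (b := b) ?_ (triv_quo h hns hR hb)
    intro e he
    rw [hc]
    exact norm_A2 (OddHalf.UT5.Fam.tauC_R1 e he)

open Cfsg.Agent.KFacts.He.Lv Cfsg.Agent.KFacts.He in
theorem row : Row23 2 Spor.He := by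
  have hs : IsSimpleGroup Spor.He := Cfsg.Agent.S1695.result.1
  have hcard : Nat.card Spor.He = 4030387200 := NotCT.Orders.he ⟨MulEquiv.refl _⟩
  have hfin : Finite Spor.He := Nat.finite_of_card_ne_zero (by rw [hcard]; norm_num)
  have hq := TwoA.isQuasisimple_L
  have hns : ¬ Group.IsSolvable Spor.He := by
    intro h
    exact Cfsg.Agent.SignalizersComponents.Components.quasisimple_not_isSolvable hq inferInstance
  have hc : center Spor.He = ⊥ := center_eq_bot hns
  intro x hx hR _ hT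
  have hxx : x * x = 1 := by rw [← pow_two, ← hx, pow_orderOf_eq_one]
  by_cases hin : ∃ k, x = MulAut.conj k
  · obtain ⟨k, rfl⟩ := hin
    have hk2 : orderOf k = 2 := by rwa [orderOf_injective _ (H839.Rad.conj_injective hc)] at hx
    have hkk : k * k = 1 := by rw [← pow_two, ← hk2, pow_orderOf_eq_one]
    have hk1 : k ≠ 1 := by rintro rfl; rw [orderOf_one] at hk2; norm_num at hk2
    rcases CTwoTab.He.classes hkk hk1 with h | h
    · obtain ⟨y, hy, hzy⟩ := inv_z
      exact inner_false hc hT h (by norm_num) le_rfl hy hzy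
    · obtain ⟨y, hy, hay⟩ := inv_a
      have ha : SporadicB.HePerm.wd [.a] = gn .a := wd_one _
      have h1 : IsConj (SporadicB.HePerm.wd [.c]) k := conj_ac.symm.trans (ha ▸ h)
      exact inner_false hc hT h1 (by norm_num) le_rfl hy hay
  · obtain ⟨u, hu1, huu, hxu⟩ := H291.Parity.exists_fixed_invo x hxx (by rw [hcard]; decide)
    rcases CTwoTab.He.classes huu hu1 with h | h
    · obtain ⟨g, hg⟩ := isConj_iff.1 h
      have h1 : (H459.Gallery.cx x g) CTwoTab.He.z = CTwoTab.He.z := by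
        rw [H459.Gallery.cx_apply, hg, hxu, ← hg]
        group
      have h2 : RC (H459.Gallery.cx x g) := by
        rw [← cx_eq_tr]
        exact hR.tr _
      obtain ⟨k, hk⟩ := inner_of_fix_z Hyp.hyp hns h2 h1
      apply hin
      refine ⟨g * k * g⁻¹, ?_⟩
      have h3 : x = MulAut.conj g * H459.Gallery.cx x g * (MulAut.conj g)⁻¹ := by
        unfold H459.Gallery.cx
        group
      rw [h3, hk, map_mul, map_mul, map_inv]
    · obtain ⟨g, rfl⟩ := H291.RowsF.conj_cent h
      have T : H291.RowsE.TopP Spor.He (gn .a) TwoACent.L :=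
        ⟨CTwoTab.He.L_le_cent, TwoACent.perf, CTwoTab.He.perfect_le_L⟩
      have T' := H291.RowsF.topP_map g T
      have hcard' : Nat.card ↥(TwoACent.L.map g.toMonoidHom) = 80640 := by
        rw [Nat.card_congr (TwoACent.L.equivMapOfInjective g.toMonoidHom g.injective).symm.toEquiv, CTwoTab.He.card_L]
      have hq' : IsQuasisimple ↥(TwoACent.L.map g.toMonoidHom) :=
        (Cfsg.Agent.SignalizersComponents.Components.isQuasisimple_congr
          (TwoACent.L.equivMapOfInjective g.toMonoidHom g.injective)).1 hq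
      have hne : TwoACent.L.map g.toMonoidHom ≠ ⊤ := by
        intro h
        have h1 : Nat.card ↥(TwoACent.L.map g.toMonoidHom) = Nat.card Spor.He := by rw [h]; exact Subgroup.card_top
        rw [hcard', hcard] at h1
        norm_num at h1
      have h2 : TwoACent.L.map g.toMonoidHom ≤ fixedSubgroup x := by
        intro m hm
        exact fix_top hR hxu T' hne hq' hm
      have h3 := card_dvd_of_le h2
      rw [hcard'] at h3
      exact H287.OutHe.not_dvd Hyp.hyp hxx hin ((by norm_num : 2 ^ 7 ∣ 80640).trans h3)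

theorem row2_he {K : Type*} [Group K] [Finite K] [IsSimpleGroup K] (h : Cfsg.Spor.IsoHe K) : Row23 2 K := by
  obtain ⟨e⟩ := h
  have : Finite Spor.He := Finite.of_equiv _ e.toEquiv
  exact Row23.congr e row

end Cfsg.Agent.H815.Row2He
end
end

-- part: H173/Rad2/HN
section
prune_inst 0x4000000000000018001020000020100000020040000100800502000180012005000010e0041011008860000a800000000009001000002000820000000000042026c20040100881000040e807180c00000000000000000000000000000000000000000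
set_option linter.all false
open scoped Cfsg.Agent.FastGrp

-- part: H173/Rad2/SheetE
section
/-!
# Radical automorphisms of order two: the groups with a sheet of type (E) (helper173, for S3832, S4336)

`SheetE z P R` (`z` 2-central, `P = C_K(z)^∞`, `R = O₂(P)`): groups J2 J3 Suz Co1 Co2 Th B M J4 HN Fi24'.

* `exists_sylow` : an automorphism of 2-power order fixes a Sylow 2-subgroup;
* `exists_fix` : some conjugate `cx x g` fixes `z`;
* `exists_conj` : a radical automorphism of order 2 is inner and conjugate to an element of `R`;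
* `noRC_of_sheetE` : `NoRC 2 K`.
-/

set_option autoImplicit false
set_option linter.unusedSectionVars false

namespace Cfsg.Agent.H173.Rad2

open Subgroup Cfsg Cfsg.Agent.H459.Rad Cfsg.Agent.H459.Gallery Cfsg.Agent.H483.Rad23
open Cfsg.Agent.OddHalf.D8.Sheet
open Cfsg.Agent.SignalizersComponents
open scoped commutatorElement Pointwise

variable {K : Type*} [Group K] [Finite K]

/-- an automorphism of `p`-power order fixes a Sylow `p`-subgroup -/
theorem exists_sylow {p : ℕ} [hp : Fact p.Prime] {x : MulAut K} (hx : IsPGroup p (zpowers x)) :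
    ∃ S : Sylow p K, ∀ s ∈ S, x s ∈ S := by
  have h1 := hx.card_modEq_card_fixedPoints (Sylow p K)
  have h2 := h1.symm.trans (card_sylow_modEq_one p K)
  have h3 : Nat.card (MulAction.fixedPoints (zpowers x) (Sylow p K)) ≠ 0 := by
    intro h
    rw [h] at h2
    have h4 : (1 : ℕ) ≡ 0 [MOD p] := h2.symm
    rw [Nat.modEq_zero_iff_dvd, Nat.dvd_one] at h4
    exact hp.1.one_lt.ne' h4
  obtain ⟨⟨S, hS⟩⟩ : Nonempty (MulAction.fixedPoints (zpowers x) (Sylow p K)) := (Nat.card_ne_zero.1 h3).1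
  refine ⟨S, fun s hs => ?_⟩
  have h4 : (⟨x, mem_zpowers x⟩ : zpowers x) • S = S := hS _
  rw [← h4]
  exact ⟨s, hs, rfl⟩

/-- a conjugate of an automorphism of 2-power order fixes `z` -/
theorem exists_fix {z : K} (hz1 : z ≠ 1) (hsyl : ∃ S : Sylow 2 K, z ∈ S ∧ (∀ x ∈ S, x * z = z * x) ∧
    ∀ y ∈ S, (∀ x ∈ S, x * y = y * x) → y = 1 ∨ y = z) {x : MulAut K} (hx : IsPGroup 2 (zpowers x)) :
    ∃ g : K, H459.Gallery.cx x g z = z := by
  obtain ⟨S, hzS, hS, hu⟩ := hsyl
  obtain ⟨T, hT⟩ := exists_sylow hx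
  obtain ⟨g, hg⟩ := MulAction.exists_smul_eq K S T
  have hmem : ∀ {s : K}, s ∈ S ↔ g * s * g⁻¹ ∈ T := by
    intro s
    rw [← hg, ← SetLike.mem_coe, ← SetLike.mem_coe]
    constructor
    · intro hs
      exact ⟨s, hs, rfl⟩
    · rintro ⟨t, ht, h⟩
      have h' : g * t * g⁻¹ = g * s * g⁻¹ := h
      rwa [← mul_left_cancel (mul_right_cancel h')]
  have hinv : ∀ s ∈ S, H459.Gallery.cx x g s ∈ S := by
    intro s hs
    rw [cx_apply, hmem]
    have h1 := hT _ (hmem.1 hs)
    have e : g * (g⁻¹ * x (g * s * g⁻¹) * g) * g⁻¹ = x (g * s * g⁻¹) := by group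
    rw [e]
    exact h1
  refine ⟨g, ?_⟩
  set y := H459.Gallery.cx x g with hy
  -- `y` maps `S` onto `S`
  have hsurj : ∀ s ∈ S, ∃ t ∈ S, y t = s := by
    have h1 : (S : Subgroup K).map y.toMonoidHom = S := by
      apply Subgroup.eq_of_le_of_card_ge
      · rintro _ ⟨s, hs, rfl⟩
        exact hinv s hs
      · exact (Nat.card_congr ((S : Subgroup K).equivMapOfInjective y.toMonoidHom y.injective).toEquiv).le
    intro s hs
    have h2 : s ∈ (S : Subgroup K).map y.toMonoidHom := by rw [h1]; exact hs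
    obtain ⟨t, ht, h⟩ := h2
    exact ⟨t, ht, h⟩
  rcases hu (y z) (hinv z hzS) (fun s hs => by
    obtain ⟨t, ht, rfl⟩ := hsurj s hs
    rw [← map_mul, ← map_mul, hS t ht]) with h1 | h1
  · exact absurd (y.injective (h1.trans (map_one y).symm)) hz1
  · exact h1

variable {z : K} {P R : Subgroup K}

/-- the solvable subgroups of `P` normalised by `C(z)` are central modulo `R` -/
def CentR (z : K) (P R : Subgroup K) : Prop :=
  ∀ X : Subgroup K, X ≤ P → (∀ u, u * z = z * u → ∀ b ∈ X, u * b * u⁻¹ ∈ X) → Group.IsSolvable X →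
    ∀ b ∈ X, ∀ u ∈ P, ⁅b, u⁆ ∈ R

/-- it is sufficient that they lie in `R` -/
theorem CentR.of_le (h : SheetE z P R)
    (hX : ∀ X : Subgroup K, X ≤ P → (∀ u, u * z = z * u → ∀ b ∈ X, u * b * u⁻¹ ∈ X) → Group.IsSolvable X → X ≤ R) :
    CentR z P R := by
  intro X h1 h2 h3 b hb u hu
  have hbR := hX X h1 h2 h3 hb
  rw [commutatorElement_def]
  have e : b * u * b⁻¹ * u⁻¹ = b * (u * b⁻¹ * u⁻¹) := by group
  rw [e]
  exact R.mul_mem hbR (h.Rn u hu _ (R.inv_mem hbR))

/-- `P` is not solvable -/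
theorem not_solvable (h : SheetE z P R) : ¬ Group.IsSolvable P := by
  intro h3
  have hnt : Nontrivial P := ⟨⟨⟨z, h.zP⟩, 1, fun h5 => h.z1 (congrArg Subtype.val h5)⟩⟩
  have h5 := Group.IsSolvable.commutator_lt_top_of_nontrivial P
  have h6 := h.perf
  rw [← Subgroup.isPerfect_iff] at h6
  rw [h6.commutator_eq_top] at h5
  exact lt_irrefl _ h5

/-- the normal subgroups of `C(z)` in `P` lie in `R` or contain `P` -/
theorem CentR.of_cases (h : SheetE z P R)
    (hX : ∀ X : Subgroup K, X ≤ P → (∀ u, u * z = z * u → ∀ b ∈ X, u * b * u⁻¹ ∈ X) → X ≤ R ∨ P ≤ X) :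
    CentR z P R :=
  .of_le h fun X h1 h2 h3 => (hX X h1 h2).resolve_right fun h4 =>
    not_solvable h (ComponentExists.isSolvable_of_le h4 h3)

/-- `P / R` is simple -/
theorem CentR.of_simple (h : SheetE z P R) [hn : (R.subgroupOf P).Normal] (hs : IsSimpleGroup (P ⧸ R.subgroupOf P)) :
    CentR z P R := by
  refine .of_le h fun X h1 h2 h3 => ?_
  have hXn : (X.subgroupOf P).Normal := ⟨fun b hb u => h2 u (h.cen u u.2) b hb⟩
  have h4 : Group.IsSolvable ((X.subgroupOf P).map (QuotientGroup.mk' (R.subgroupOf P))) := by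
    refine ComponentExists.isSolvable_map ?_ _
    exact Group.isSolvable_of_surjective (f := (subgroupOfEquivOfLe h1).symm.toMonoidHom)
      (subgroupOfEquivOfLe h1).symm.surjective
  rcases ((hXn.map _ (QuotientGroup.mk'_surjective _) :
    ((X.subgroupOf P).map (QuotientGroup.mk' (R.subgroupOf P))).Normal)).eq_bot_or_eq_top with h5 | h5
  · intro x hx
    have h6 : (QuotientGroup.mk' (R.subgroupOf P)) ⟨x, h1 hx⟩ ∈
        (X.subgroupOf P).map (QuotientGroup.mk' (R.subgroupOf P)) := ⟨⟨x, h1 hx⟩, hx, rfl⟩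
    rw [h5, mem_bot, QuotientGroup.mk'_apply, QuotientGroup.eq_one_iff] at h6
    exact h6
  · exfalso
    -- the quotient is perfect and solvable
    rw [h5] at h4
    have h6 : Group.IsSolvable (P ⧸ R.subgroupOf P) :=
      Group.isSolvable_of_surjective (f := (⊤ : Subgroup (P ⧸ R.subgroupOf P)).subtype) fun g => ⟨⟨g, mem_top g⟩, rfl⟩
    have h7 := Group.IsSolvable.commutator_lt_top_of_nontrivial (P ⧸ R.subgroupOf P)
    have h8 := h.perf
    rw [← Subgroup.isPerfect_iff] at h8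
    have h9 : commutator (P ⧸ R.subgroupOf P) = ⊤ := by
      rw [commutator_def, ← map_top_of_surjective _ (QuotientGroup.mk'_surjective (R.subgroupOf P)), ← map_commutator,
        ← commutator_def, h8.commutator_eq_top]
    rw [h9] at h7
    exact lt_irrefl _ h7

/-- a 2-element which is central modulo `R` lies in `R` -/
theorem mem_R (h : SheetE z P R) {b : K} (hbP : b ∈ P) (hb : ∃ n : ℕ, b ^ 2 ^ n = 1) (hc : ∀ u ∈ P, ⁅b, u⁆ ∈ R) :
    b ∈ R := by
  -- the preimage of `⟨bR⟩`
  have hRn : (R.subgroupOf P).Normal := ⟨fun r hr g => h.Rn g g.2 r hr⟩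
  set f := QuotientGroup.mk' (R.subgroupOf P) with hf
  have hker : ∀ {u : P}, f u = 1 ↔ (u : K) ∈ R := by
    intro u
    rw [hf, QuotientGroup.mk'_apply, QuotientGroup.eq_one_iff, mem_subgroupOf]
  set B : Subgroup K := ((zpowers (f ⟨b, hbP⟩)).comap f).map P.subtype with hB
  have hmemB : ∀ {c : K} (hc : c ∈ P), c ∈ B ↔ f ⟨c, hc⟩ ∈ zpowers (f ⟨b, hbP⟩) := by
    intro c hc
    constructor
    · rintro ⟨d, hd, rfl⟩
      exact hd
    · intro hd
      exact ⟨⟨c, hc⟩, hd, rfl⟩
  have hBP : B ≤ P := map_subtype_le _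
  have hbcomm : ∀ u : P, f u * f ⟨b, hbP⟩ = f ⟨b, hbP⟩ * f u := by
    intro u
    have h1 := hker (u := ⁅(⟨b, hbP⟩ : P), u⁆)
    rw [map_commutatorElement, commutatorElement_eq_one_iff_mul_comm] at h1
    exact (h1.2 (hc u u.2)).symm
  have h1 : B ≤ R := by
    apply h.Rmax B hBP
    · rintro ⟨c, hcB⟩
      have hcP := hBP hcB
      obtain ⟨m, hm⟩ := (hmemB hcP).1 hcB
      obtain ⟨n, hn⟩ := hb
      have hm' : f ⟨b, hbP⟩ ^ m = f ⟨c, hcP⟩ := hm
      have h2 : f (⟨c, hcP⟩ ^ 2 ^ n) = 1 := by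
        have h3 : f ⟨b, hbP⟩ ^ 2 ^ n = 1 := by
          rw [← map_pow, hker]
          show b ^ 2 ^ n ∈ R
          rw [hn]
          exact R.one_mem
        rw [map_pow, ← hm', ← zpow_natCast, ← zpow_mul, mul_comm, zpow_mul, zpow_natCast, h3, one_zpow]
      obtain ⟨k, hk⟩ := h.R2 ⟨_, hker.1 h2⟩
      refine ⟨n + k, Subtype.ext ?_⟩
      have h4 : (c ^ 2 ^ n) ^ 2 ^ k = 1 := congrArg Subtype.val hk
      show c ^ 2 ^ (n + k) = 1
      rw [pow_add, pow_mul, h4]
    · intro u hu c hcB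
      have hcP := hBP hcB
      obtain ⟨m, hm⟩ := (hmemB hcP).1 hcB
      have hm' : f ⟨b, hbP⟩ ^ m = f ⟨c, hcP⟩ := hm
      rw [hmemB (P.mul_mem (P.mul_mem hu hcP) (P.inv_mem hu))]
      refine ⟨m, ?_⟩
      show f ⟨b, hbP⟩ ^ m = f (⟨u, hu⟩ * ⟨c, hcP⟩ * ⟨u, hu⟩⁻¹)
      have h5 : Commute (f ⟨u, hu⟩) (f ⟨b, hbP⟩ ^ m) := (show Commute _ _ from hbcomm ⟨u, hu⟩).zpow_right m
      rw [map_mul, map_mul, map_inv, ← hm', h5.eq, mul_inv_cancel_right]
  exact h1 ((hmemB hbP).2 (mem_zpowers _))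

/-- the radical of `C(z)` meets `P` in a normal subgroup of `C(z)` -/
theorem radIn_inf (h : SheetE z P R) : ∀ u, u * z = z * u → ∀ b ∈ radIn (centralizer ({z} : Set K)) ⊓ P,
    u * b * u⁻¹ ∈ radIn (centralizer ({z} : Set K)) ⊓ P := by
  rintro u hu b ⟨h1, h2⟩
  refine ⟨radIn_conj_mem (mem_centralizer_singleton_iff.2 hu) h1, ?_⟩
  have h3 := map_P h.perf h.cen h.der (MulAut.conj u) (by rw [MulAut.conj_apply, hu, mul_inv_cancel_right]) h2
  rwa [MulAut.conj_apply] at h3

/-- the centraliser of `z` is proper -/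
theorem cent_ne_top (h : SheetE z P R) (hc : center K = ⊥) : centralizer ({z} : Set K) ≠ ⊤ := by
  intro h1
  apply h.z1
  rw [← mem_bot, ← hc, mem_center_iff]
  intro g
  exact mem_centralizer_singleton_iff.1 (h1 ▸ mem_top g)

/-- automorphisms fixing `z` preserve `R` -/
theorem map_R (h : SheetE z P R) {α : MulAut K} (hα : α z = z) : ∀ r ∈ R, α r ∈ R := by
  have hαi : α⁻¹ z = z := by
    rw [MulAut.inv_apply, MulEquiv.symm_apply_eq, hα]
  have h1 : R.map α.toMonoidHom ≤ R := by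
    apply h.Rmax
    · rintro _ ⟨r, hr, rfl⟩
      exact map_P h.perf h.cen h.der α hα (h.RP hr)
    · exact h.R2.map _
    · rintro x hx _ ⟨r, hr, rfl⟩
      refine ⟨α⁻¹ x * r * (α⁻¹ x)⁻¹, h.Rn _ (map_P h.perf h.cen h.der α⁻¹ hαi hx) r hr, ?_⟩
      show α (α⁻¹ x * r * (α⁻¹ x)⁻¹) = x * α r * x⁻¹
      rw [map_mul, map_mul, map_inv, MulAut.apply_inv_self]
  exact fun r hr => h1 ⟨r, hr, rfl⟩

/-- **a radical automorphism fixing `z` is trivial on `P / R`** -/
theorem triv_mod (h : SheetE z P R) (hc : center K = ⊥) (hw : CentR z P R) {α : MulAut K} (hR : RC α) (hα : α z = z) :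
    ∀ x ∈ P, x⁻¹ * α x ∈ R := by
  have hRn : (R.subgroupOf P).Normal := ⟨fun r hr g => h.Rn g g.2 r hr⟩
  set f := QuotientGroup.mk' (R.subgroupOf P) with hf
  have hker : ∀ {u : P}, f u = 1 ↔ (u : K) ∈ R := by
    intro u
    rw [hf, QuotientGroup.mk'_apply, QuotientGroup.eq_one_iff, mem_subgroupOf]
  have hP : ∀ x ∈ P, α x ∈ P := fun x hx => map_P h.perf h.cen h.der α hα hx
  let a : P →* P := (α.toMonoidHom.comp P.subtype).codRestrict P fun x => hP x x.2
  have ha : ∀ x : P, ((a x : P) : K) = α x := fun _ => rfl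
  have hrad : ∀ x : P, ∀ u : P, Commute (f (x⁻¹ * a x)) (f u) := by
    intro x u
    have h1 : (x : K)⁻¹ * α x ∈ radIn (centralizer ({z} : Set K)) ⊓ P := by
      refine ⟨hR _ (cent_ne_top h hc) ?_ x (mem_centralizer_singleton_iff.2 (h.cen x x.2)),
        P.mul_mem (P.inv_mem x.2) (hP x x.2)⟩
      intro m hm
      rw [mem_centralizer_singleton_iff] at hm ⊢
      have h2 := congrArg α hm
      rwa [map_mul, map_mul, hα] at h2
    have h2 := hw _ inf_le_right (radIn_inf h)
      (ComponentExists.isSolvable_of_le inf_le_left (radIn_solvable _)) _ h1 u u.2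
    have h3 : f ⁅x⁻¹ * a x, u⁆ = 1 := hker.2 h2
    rw [map_commutatorElement, commutatorElement_eq_one_iff_mul_comm] at h3
    exact h3
  have hdec : ∀ x : P, f (a x) = f x * f (x⁻¹ * a x) := by
    intro x
    rw [← map_mul, mul_inv_cancel_left]
  have hcomm : ∀ x y : P, f (a ⁅x, y⁆) = f ⁅x, y⁆ := by
    intro x y
    rw [map_commutatorElement, map_commutatorElement, map_commutatorElement, hdec x, hdec y]
    set c := f (x⁻¹ * a x) with hc'
    set d := f (y⁻¹ * a y) with hd'
    have h1 : Commute c (f x) := hrad x x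
    have h2 : Commute c (f y) := hrad x y
    have h3 : Commute d (f x) := hrad y x
    have h4 : Commute d (f y) := hrad y y
    have h5 : Commute c d := hrad x _
    rw [commutatorElement_def, commutatorElement_def]
    have e1 : f x * c * (f y * d) = f x * f y * (c * d) := by
      rw [mul_assoc (f x) c, ← mul_assoc c (f y) d, h2.eq, mul_assoc (f y) c d, ← mul_assoc]
    have e2 : (f x * c)⁻¹ * (f y * d)⁻¹ = (c * d)⁻¹ * ((f x)⁻¹ * (f y)⁻¹) := by
      have h6 : Commute (d⁻¹) (c⁻¹) := (h5.symm.inv_left).inv_right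
      have h7 : Commute (d⁻¹) ((f x)⁻¹) := (h3.inv_left).inv_right
      rw [mul_inv_rev, mul_inv_rev, mul_inv_rev, h6.eq]
      calc c⁻¹ * (f x)⁻¹ * (d⁻¹ * (f y)⁻¹) = c⁻¹ * ((f x)⁻¹ * d⁻¹) * (f y)⁻¹ := by group
        _ = c⁻¹ * (d⁻¹ * (f x)⁻¹) * (f y)⁻¹ := by rw [h7.eq]
        _ = c⁻¹ * d⁻¹ * ((f x)⁻¹ * (f y)⁻¹) := by group
    have hcc : Commute (c * d) ((f x)⁻¹ * (f y)⁻¹) := by
      refine Commute.mul_left ?_ ?_
      · exact (h1.inv_right).mul_right h2.inv_right
      · exact (h3.inv_right).mul_right h4.inv_right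
    calc f x * c * (f y * d) * (f x * c)⁻¹ * (f y * d)⁻¹ = (f x * c * (f y * d)) * ((f x * c)⁻¹ * (f y * d)⁻¹) := by group
      _ = (f x * f y * (c * d)) * ((c * d)⁻¹ * ((f x)⁻¹ * (f y)⁻¹)) := by rw [e1, e2]
      _ = f x * f y * (f x)⁻¹ * (f y)⁻¹ := by group
  -- `P` is perfect
  have htop : (f.comp a).eqLocus f = ⊤ := by
    have hperf : commutator P = ⊤ := by
      have h1 := h.perf
      rw [← Subgroup.isPerfect_iff] at h1
      exact h1.commutator_eq_top
    rw [eq_top_iff, ← hperf, commutator_def, commutator_le]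
    intro x _ y _
    exact hcomm x y
  intro x hx
  have h1 : (⟨x, hx⟩ : P) ∈ (f.comp a).eqLocus f := by rw [htop]; exact mem_top _
  have h2 : f (a ⟨x, hx⟩) = f ⟨x, hx⟩ := h1
  have h3 : f ((⟨x, hx⟩ : P)⁻¹ * a ⟨x, hx⟩) = 1 := by rw [map_mul, map_inv, h2, inv_mul_cancel]
  exact hker.1 h3

/-- an inner radical 2-element of `P` lies in `R` -/
theorem mem_R_of_rc (h : SheetE z P R) (hc : center K = ⊥) (hw : CentR z P R) {b : K} (hR : RC (MulAut.conj b))
    (hb : b ∈ P) (hb2 : ∃ n : ℕ, b ^ 2 ^ n = 1) : b ∈ R := by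
  have hbz : b ∈ centralizer ({z} : Set K) := mem_centralizer_singleton_iff.2 (h.cen b hb)
  have h1 : b ∈ radIn (centralizer ({z} : Set K)) := mem_radIn_coe.2 (H839.Rad.mem_rad hR (cent_ne_top h hc) hbz)
  exact mem_R h hb hb2 (hw _ inf_le_right (radIn_inf h)
    (ComponentExists.isSolvable_of_le inf_le_left (radIn_solvable _)) b ⟨h1, hb⟩)

/-- `z` is not radical -/
theorem not_rc_z (h : SheetE z P R) (hc : center K = ⊥) (hw : CentR z P R) {y : K} (hy : IsConj z y) :
    ¬ RC (MulAut.conj y) := by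
  intro hR
  obtain ⟨g, rfl⟩ := isConj_iff.1 hy
  obtain ⟨k, hk1, hk2, -⟩ := h.ytrick
  have h1 := H839.Rad.rc_conj hR (k * g⁻¹)
  have e : k * g⁻¹ * (g * z * g⁻¹) * (k * g⁻¹)⁻¹ = k * z * k⁻¹ := by group
  rw [e] at h1
  refine hk2 (mem_R_of_rc h hc hw h1 hk1 ⟨1, ?_⟩)
  have e2 : (k * z * k⁻¹) ^ 2 ^ 1 = k * (z * z) * k⁻¹ := by
    rw [pow_one, pow_two]; group
  rw [e2, h.zz]
  group

/-- **a radical automorphism of order 2 is inner and conjugate to an element of `R`** -/
theorem exists_conj (h : SheetE z P R) (hc : center K = ⊥) (hw : CentR z P R) {x : MulAut K} (hx : IsPGroup 2 (zpowers x))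
    (hR : RC x) : ∃ g : K, ∃ r ∈ R, H459.Gallery.cx x g = MulAut.conj r := by
  obtain ⟨g, hg⟩ := exists_fix h.z1 h.syl hx
  refine ⟨g, ?_⟩
  have hx' : IsPGroup 2 (zpowers (H459.Gallery.cx x g)) := by
    obtain ⟨n, hn⟩ := IsPGroup.iff_card.1 hx
    refine IsPGroup.of_card (n := n) ?_
    rw [Nat.card_zpowers, orderOf_cx, ← Nat.card_zpowers, hn]
  have hRC := hR.cx g
  exact h.aut _ hx' hg (triv_mod h hc hw hRC hg)

/-- **no radical automorphisms of order two** -/
theorem noRC_of_sheetE (h : SheetE z P R) (hc : center K = ⊥) (hw : CentR z P R)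
    (hin : ∀ y ∈ R, orderOf y = 2 → ¬ IsConj z y → RC (MulAut.conj y) → False) : NoRC 2 K := by
  intro x hx hR
  obtain ⟨g, r, hr, hgr⟩ := exists_conj h hc hw
    (IsPGroup.of_card (n := 1) (by rw [Nat.card_zpowers, hx, pow_one])) hR
  have h1 : RC (MulAut.conj r) := by rw [← hgr]; exact hR.cx g
  have h2 : orderOf r = 2 := by
    rw [← orderOf_injective _ (H839.Rad.conj_injective hc), ← hgr, orderOf_cx, hx]
  by_cases hz : IsConj z r
  · exact not_rc_z h hc hw hz h1
  · exact hin r hr h2 hz h1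

end Cfsg.Agent.H173.Rad2
end

-- part: H173/Rad2/HN
section
/-!
# Radical automorphisms of order two of the Harada–Norton group (helper173, for S3832, S4336)
-/

set_option autoImplicit false

namespace Cfsg.Agent.H173.Rad2.HNRow

open Subgroup Cfsg.Agent.H173.RS Cfsg.Agent.H173.RS.HNRow Cfsg.Agent.H459.Rad Cfsg.Agent.H483.Rad23
open Cfsg.Agent.HN.Pres Cfsg.Agent.HN.H0Basic Cfsg.Agent.HN.XWords Cfsg.Agent.KFacts.HN

theorem centR : CentR W0 MM RS :=
  .of_cases sheetE fun _ h1 h2 => normal_cases (h1.trans MM_le_PP) fun u hu => h2 u (mem_PP.1 hu)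

/-- an involution of `A₁₂` of the class of `τ` -/
theorem exists_inv : ∃ σ : A12, orderOf (f σ) = 2 ∧ IsConj (f σ) (Cfsg.Agent.HN.NormalH.ψ τ) := by
  have h2 : Fact (Nat.Prime 2) := ⟨Nat.prime_two⟩
  obtain ⟨σ, hσ⟩ : ∃ σ : RS.A5, orderOf σ = 2 := exists_prime_orderOf_dvd_card' 2 (by rw [RS.card_A5]; norm_num)
  have ho : orderOf (f (e5 σ)) = 2 := by rw [orderOf_injective f f_inj, orderOf_injective e5 e5_injective, hσ]
  refine ⟨e5 σ, ho, ?_⟩
  rcases Cfsg.Agent.SigZeroHN.card_centralizer_cases ho with ⟨h, -⟩ | ⟨-, h⟩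
  · exact h
  exfalso
  have h7 : 7 ∣ Nat.card (centralizer ({f (e5 σ)} : Set Cfsg.Spor.HN)) := by
    have h1 : u ∈ centralizer ({f (e5 σ)} : Set Cfsg.Spor.HN) := by
      rw [mem_centralizer_singleton_iff, u, ← map_mul, ← map_mul, c7_comm]
    have h8 : orderOf (⟨u, h1⟩ : centralizer ({f (e5 σ)} : Set Cfsg.Spor.HN)) = 7 := by
      rw [Subgroup.orderOf_mk, orderOf_u]
    exact h8.symm.dvd.trans (orderOf_dvd_natCard (⟨u, h1⟩ : centralizer ({f (e5 σ)} : Set Cfsg.Spor.HN)))
  rw [h] at h7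
  exact absurd h7 (by norm_num)

theorem simple_A12 : IsSimpleGroup A12 := alternatingGroup.isSimpleGroup (by simp)

theorem row_model : NoRC 2 Cfsg.Spor.HN := by
  have hs := Cfsg.Agent.HN.Main.simple_HN
  have hc : center Cfsg.Spor.HN = ⊥ := by
    rcases (inferInstance : (center Cfsg.Spor.HN).Normal).eq_bot_or_eq_top with h | h
    · exact h
    · exfalso
      obtain ⟨P, -, a, -, b, -, hab⟩ := HNRow.exists_three
      exact hab (mem_center_iff.1 (h ▸ mem_top b : b ∈ center Cfsg.Spor.HN) a)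
  have := simple_A12
  refine noRC_of_sheetE sheetE hc centR fun y _ hy hz hR => ?_
  obtain ⟨σ, ho, hσ⟩ := exists_inv
  have hyτ : IsConj y (Cfsg.Agent.HN.NormalH.ψ τ) := by
    rcases Cfsg.Agent.SigZeroHN.card_centralizer_cases hy with ⟨h, -⟩ | ⟨h, -⟩
    · exact h
    · exact absurd h.symm hz
  obtain ⟨g, hg⟩ := isConj_iff.1 (hyτ.trans hσ.symm)
  have e : A12 ≃* f.range := MonoidHom.ofInjective f_inj
  have hsA : IsSimpleGroup f.range := by
    have := e.symm.surjective.nontrivial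
    exact IsSimpleGroup.isSimpleGroup_of_surjective e.toMonoidHom e.surjective
  have hns : ¬ Group.IsSolvable f.range := by
    intro h
    have h1 : Group.IsSolvable A12 := Group.isSolvable_of_isSolvable_injective (f := e.toMonoidHom) e.injective
    have h2 := (IsSimpleGroup.comm_iff_isSolvable (G := A12)).2 h1
    have h3 : center A12 = ⊥ := alternatingGroup.center_eq_bot (by simp)
    have h4 : center A12 = ⊤ := by
      rw [eq_top_iff]
      intro a _
      rw [mem_center_iff]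
      exact fun b => h2 b a
    exact bot_ne_top (h3.symm.trans h4)
  refine H839.Rad.false_of_conj_mem hy hR (M := f.range) ?_ (g := g) (by rw [hg]; exact ⟨σ, rfl⟩)
    (.of_simple (by norm_num) hns)
  intro htop
  have h1 : Nat.card f.range = Nat.card Cfsg.Spor.HN := by rw [htop, card_top]
  have h2 : Nat.card A12 ≤ 479001600 := by
    have h3 : Nat.card A12 ≤ Nat.card (Equiv.Perm (Fin 7 ⊕ Fin 5)) :=
      Nat.card_le_card_of_injective _ (alternatingGroup (Fin 7 ⊕ Fin 5)).subtype_injective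
    refine h3.trans ?_
    rw [Nat.card_eq_fintype_card, Fintype.card_perm, Fintype.card_sum, Fintype.card_fin, Fintype.card_fin]
    decide +kernel
  rw [card_HN, ← Nat.card_congr e.toEquiv] at h1
  omega

/-- **HN** -/
theorem row2_hn {K : Type*} [Group K] [Finite K] [IsSimpleGroup K] (h : Cfsg.Spor.IsoHN K) : Row23 2 K :=
  h.elim fun e => (row_model.congr e).row

end Cfsg.Agent.H173.Rad2.HNRow
end
end

-- part: H71/Rad2Tits
section
prune_inst 0x4000002210000018000022000000100000000000000100400100004080012005000110e0000081108c70000a800000100109021000002a008a0000000000042026c21040100880000040e807100000000000000000000000000000000000000000000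
set_option linter.all false
open scoped Cfsg.Agent.FastGrp

/-!
# The Tits group, automorphisms of order two (task 1543, row2_tits)

Every automorphism of order two of the Tits group is inner; both classes of involutions invert an element of order 5.
-/

set_option autoImplicit false
set_option maxRecDepth 100000

namespace Cfsg.Agent.H71.Rad2Tits

open Subgroup Cfsg Cfsg.Agent.TitsK

universe u v

/-- two involutions of different classes which invert elements of order 5 -/
def InvF (K : Type*) [Group K] : Prop :=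
  ∃ u₁ u₂ : K, u₁ * u₁ = 1 ∧ u₂ * u₂ = 1 ∧ u₁ ≠ 1 ∧ u₂ ≠ 1 ∧ (∃ g : K, g ^ 5 = 1 ∧ g ≠ 1 ∧ g * u₁ = u₁ * g) ∧
    (∃ g : K, g ^ 3 = 1 ∧ g ≠ 1 ∧ g * u₂ = u₂ * g) ∧ (∃ g : K, g ^ 5 = 1 ∧ g ≠ 1 ∧ u₁ * g * u₁⁻¹ = g⁻¹) ∧
    ∃ g : K, g ^ 5 = 1 ∧ g ≠ 1 ∧ u₂ * g * u₂⁻¹ = g⁻¹

/-- every involution inverts an element of order 5 -/
def AllInv (K : Type*) [Group K] : Prop :=
  ∀ y : K, y * y = 1 → y ≠ 1 → ∃ g : K, g ^ 5 = 1 ∧ g ≠ 1 ∧ y * g * y⁻¹ = g⁻¹

theorem ne_one_of {K L : Type*} [Group K] [Group L] (e : K ≃* L) {x : K} (h : x ≠ 1) : e x ≠ 1 :=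
  fun hc => h (e.injective (hc.trans (map_one e).symm))

theorem InvF.congr {K L : Type*} [Group K] [Group L] (e : K ≃* L) (h : InvF K) : InvF L := by
  obtain ⟨u₁, u₂, h1, h2, h3, h4, ⟨g, g1, g2, g3⟩, ⟨k, k1, k2, k3⟩, ⟨a, a1, a2, a3⟩, ⟨b, b1, b2, b3⟩⟩ := h
  refine ⟨e u₁, e u₂, by rw [← map_mul, h1, map_one], by rw [← map_mul, h2, map_one], ne_one_of e h3, ne_one_of e h4,
    ⟨e g, by rw [← map_pow, g1, map_one], ne_one_of e g2, by rw [← map_mul, g3, map_mul]⟩,
    ⟨e k, by rw [← map_pow, k1, map_one], ne_one_of e k2, by rw [← map_mul, k3, map_mul]⟩,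
    ⟨e a, by rw [← map_pow, a1, map_one], ne_one_of e a2, by rw [← map_mul, ← map_inv, ← map_mul, a3, map_inv]⟩,
    ⟨e b, by rw [← map_pow, b1, map_one], ne_one_of e b2, by rw [← map_mul, ← map_inv, ← map_mul, b3, map_inv]⟩⟩

theorem AllInv.congr {K L : Type*} [Group K] [Group L] (e : K ≃* L) (h : AllInv K) : AllInv L := by
  intro y hy hy1
  obtain ⟨a, a1, a2, a3⟩ := h (e.symm y) (by rw [← map_mul, hy, map_one]) (ne_one_of e.symm hy1)
  refine ⟨e a, by rw [← map_pow, a1, map_one], ne_one_of e a2, ?_⟩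
  have h1 := congrArg e a3
  rwa [map_mul, map_mul, map_inv, map_inv, e.apply_symm_apply] at h1

section Model

open Cfsg.Agent.Omega.TwoF.Orb Cfsg.Agent.Omega.TwoF.Scalar
open Cfsg.Agent.ChevalleyStructure.Tits.Pack Cfsg.Agent.ChevalleyStructure.Tits.Data
  Cfsg.Agent.ChevalleyStructure.Tits.Sat Cfsg.Agent.ChevalleyStructure.Tits.Final
  Cfsg.Agent.ChevalleyStructure.Tits.Mat Cfsg.Agent.ChevalleyStructure.Tits.Order
  Cfsg.Agent.ChevalleyStructure.Tits.Main Cfsg.Agent.Omega.TwoF.Tits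
open scoped MatrixGroups

theorem t4 : t ^ 4 = 1 := by
  apply Subtype.ext
  have h : ((t ^ 4 : C) : H0) = wH (List.replicate 4 wt).flatten := by rw [wH_rep]; rfl
  rw [h]
  exact rel (v := []) (by decide +kernel)

theorem x1_sq : x 1 * x 1 = 1 := by
  apply Subtype.ext
  show wH (wx 1) * wH (wx 1) = _
  rw [← wH_append]
  exact rel (v := []) (by decide +kernel)

theorem x2_cube : x 2 ^ 3 = 1 := by
  apply Subtype.ext
  have h : ((x 2 ^ 3 : C) : H0) = wH (List.replicate 3 (wx 2)).flatten := by rw [wH_rep]; rfl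
  rw [h]
  exact rel (v := []) (by decide +kernel)

theorem x1_a : x 1 * a * (x 1)⁻¹ = b := by
  rw [x_a]
  show a ^ 0 * b ^ 1 = b
  rw [pow_zero, one_mul, pow_one]

theorem x1_b : x 1 * b * (x 1)⁻¹ = a := by
  rw [x_b]
  show a ^ 1 * b ^ 0 = a
  rw [pow_zero, mul_one, pow_one]

theorem x2_t : x 2 * t = t * x 2 := by
  have h := x_t 2
  have h1 : pe 2 = 0 := rfl
  rw [h1, pow_zero, pow_zero, mul_one, mul_one] at h
  rw [mul_assoc, inv_mul_eq_iff_eq_mul] at h
  exact h.symm

theorem x2_ne : x 2 ≠ 1 := by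
  intro h
  have h1 := x_a 2
  rw [h, one_mul, inv_one, mul_one] at h1
  have h2 : a ^ 1 * b ^ 0 = a ^ 1 * b ^ 1 := by
    rw [pow_one, pow_zero, mul_one, pow_one]
    exact h1.trans (by show a ^ 1 * b ^ 1 = a * b; rw [pow_one, pow_one])
  have h3 := (two.eq_iff 1 0 1 1).1 h2
  omega

theorem inv_of_pow {w : C} (h5 : w ^ 5 = 1) : w ^ 4 = w⁻¹ := by
  rw [eq_inv_iff_mul_eq_one, ← pow_succ]
  exact h5

theorem tt_a : (t * t) * a * (t * t)⁻¹ = a⁻¹ := by
  have h1 : (t * t) * a * (t * t)⁻¹ = t * (t * a * t⁻¹) * t⁻¹ := by group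
  have h2 : t * a ^ 2 * t⁻¹ = (t * a * t⁻¹) ^ 2 := by rw [conj_pow]
  rw [h1, ta, h2, ta, ← pow_mul]
  exact inv_of_pow a5

theorem tt_sq : (t * t) * (t * t) = 1 := by
  calc (t * t) * (t * t) = t ^ 2 * t ^ 2 := by rw [pow_two]
    _ = t ^ (2 + 2) := (pow_add t 2 2).symm
    _ = 1 := t4

theorem tt_ne : t * t ≠ 1 := by
  intro h
  have h1 := tt_a
  rw [h, one_mul, inv_one, mul_one] at h1
  have h2 : a ^ 2 * b ^ 0 = a ^ 0 * b ^ 0 := by
    rw [pow_zero, mul_one, pow_zero, mul_one, pow_two]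
    nth_rewrite 1 [h1]
    rw [inv_mul_cancel]
  have h3 := (two.eq_iff 2 0 0 0).1 h2
  omega

theorem x1_ne : x 1 ≠ 1 := by
  intro h
  have h1 := x1_a
  rw [h, one_mul, inv_one, mul_one] at h1
  exact b1 (h1 ▸ mem_zpowers _)

theorem x1_c : x 1 * (a * b) = (a * b) * x 1 := by
  have h1 : x 1 * (a * b) * (x 1)⁻¹ = (x 1 * a * (x 1)⁻¹) * (x 1 * b * (x 1)⁻¹) := by group
  rw [x1_a, x1_b, ← comm_ab] at h1
  rwa [mul_inv_eq_iff_eq_mul] at h1

theorem ab_ne : a * b ≠ 1 := by
  intro h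
  have h2 : a ^ 1 * b ^ 1 = a ^ 0 * b ^ 0 := by rw [pow_one, pow_one, pow_zero, pow_zero, mul_one, h]
  have h3 := (two.eq_iff 1 1 0 0).1 h2
  omega

theorem ab_pow : (a * b) ^ 5 = 1 := by
  have h1 := (elem_grp two).pow (a ^ 1 * b ^ 1) ⟨1, 1, rfl⟩
  rwa [pow_one, pow_one] at h1

theorem invF_C : InvF C := by
  have h2 : x 1 * (a * b⁻¹) * (x 1)⁻¹ = (x 1 * a * (x 1)⁻¹) * (x 1 * b * (x 1)⁻¹)⁻¹ := by group
  have hb5 : a * b⁻¹ = a ^ 1 * b ^ 4 := by rw [inv_of_pow b5, pow_one]
  refine ⟨x 1, t * t, x1_sq, tt_sq, x1_ne, tt_ne, ⟨a * b, ab_pow, ab_ne, x1_c.symm⟩,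
    ⟨x 2, x2_cube, x2_ne, ?_⟩, ⟨a * b⁻¹, ?_, ?_, ?_⟩, ⟨a, a5, a1, tt_a⟩⟩
  · rw [← mul_assoc, x2_t, mul_assoc, x2_t, mul_assoc]
  · rw [hb5]
    exact (elem_grp two).pow (a ^ 1 * b ^ 4) ⟨1, 4, rfl⟩
  · intro h
    rw [hb5] at h
    have h3 := (two.eq_iff 1 4 0 0).1 (by rw [h, pow_zero, pow_zero, mul_one])
    omega
  · rw [h2, x1_a, x1_b]
    group

theorem invF_aux (T : Subgroup (GL I52 (ZMod 2))) (hT : T = H0) : InvF (commutator T) := by
  subst hT
  exact invF_C

theorem invF_of {G K : Type*} [Group G] [Group K] (T : Subgroup G) (h : InvF (commutator T))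
    (e : K ≃* commutator T) : InvF K := h.congr e.symm

theorem invF {K : Type*} [Group K] (h : Cfsg.Lie.IsoTits K) : InvF K := by
  obtain ⟨T, hT, ⟨e⟩⟩ := Cfsg.Agent.Omega.TwoF.TitsAut.exists_equiv h
  exact invF_of T (invF_aux T hT) e

end Model

/-- **every involution of the Tits group inverts an element of order 5** -/
theorem allInv_T {G : Type*} [Group G] [Finite G] (D : TData G)
    (three : ∀ g ∈ D.H, g ^ 3 = 1 → g * D.z * g⁻¹ = D.z → g = 1)
    (five : ∀ g ∈ D.H, g ^ 5 = 1 → g * D.d * g⁻¹ = D.d → g = 1) (h : InvF ↥D.T) : AllInv ↥D.T := by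
  obtain ⟨u₁, u₂, h1, h2, h3, h4, ⟨g, g1, g2, g3⟩, ⟨k, k1, k2, k3⟩, ⟨a, a1, a2, a3⟩, ⟨b, b1, b2, b3⟩⟩ := h
  have mk : ∀ (u : ↥D.T) {s : G}, s ∈ D.T → ∀ {w : G}, s * (u : G) * s⁻¹ = w → ∀ {n : ℕ} (c : ↥D.T),
      c ^ n = 1 → c ≠ 1 → c * u = u * c → ∃ c' ∈ D.H, c' ^ n = 1 ∧ c' ≠ 1 ∧ c' * w * c'⁻¹ = w := by
    intro u s hs w hw n c hc hc1 hcu
    refine ⟨s * c * s⁻¹, D.T_le (mul_mem (mul_mem hs c.2) (inv_mem hs)), ?_, ?_, ?_⟩
    · rw [conj_pow, ← Subgroup.coe_pow, hc, Subgroup.coe_one, mul_one, mul_inv_cancel]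
    · intro h
      apply hc1
      apply Subtype.ext
      rw [mul_inv_eq_one] at h
      exact mul_left_cancel (a := s) (by rw [h, Subgroup.coe_one, mul_one])
    · rw [← hw]
      have e1 : (c : G) * u = u * c := congrArg Subtype.val hcu
      calc s * (c : G) * s⁻¹ * (s * u * s⁻¹) * (s * c * s⁻¹)⁻¹ = s * ((c : G) * u) * (c : G)⁻¹ * s⁻¹ := by group
        _ = s * u * s⁻¹ := by rw [e1]; group
  have hz : ∃ s ∈ D.T, s * (u₁ : G) * s⁻¹ = D.z := by
    rcases D.invol_cases u₁.2 (congrArg Subtype.val h1) (fun h => h3 (Subtype.ext h)) with h | ⟨s, hs, h⟩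
    · exact h
    · exfalso
      obtain ⟨c, hc, c1, c2, c3⟩ := mk u₁ hs h g g1 g2 g3
      exact c2 (five _ hc c1 c3)
  have hd : ∃ s ∈ D.T, s * (u₂ : G) * s⁻¹ = D.d := by
    rcases D.invol_cases u₂.2 (congrArg Subtype.val h2) (fun h => h4 (Subtype.ext h)) with ⟨s, hs, h⟩ | h
    · exfalso
      obtain ⟨c, hc, c1, c2, c3⟩ := mk u₂ hs h k k1 k2 k3
      exact c2 (three _ hc c1 c3)
    · exact h
  -- transport of the inverted elements
  have key : ∀ {u y c : ↥D.T} {w : G}, (∃ s ∈ D.T, s * (u : G) * s⁻¹ = w) →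
      (∃ s ∈ D.T, s * (y : G) * s⁻¹ = w) → c ^ 5 = 1 → c ≠ 1 → u * c * u⁻¹ = c⁻¹ →
      ∃ c' : ↥D.T, c' ^ 5 = 1 ∧ c' ≠ 1 ∧ y * c' * y⁻¹ = c'⁻¹ := by
    rintro u y c w ⟨s, hs, h5⟩ ⟨r, hr, h6⟩ c1 c2 c3
    set k : ↥D.T := ⟨r, hr⟩⁻¹ * ⟨s, hs⟩ with hk
    have hy : y = k * u * k⁻¹ := by
      apply Subtype.ext
      show (y : G) = r⁻¹ * s * u * (r⁻¹ * s)⁻¹
      have e : (y : G) = r⁻¹ * (r * y * r⁻¹) * r := by group
      rw [e, h6, ← h5]
      group
    refine ⟨k * c * k⁻¹, ?_, ?_, ?_⟩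
    · rw [conj_pow, c1, mul_one, mul_inv_cancel]
    · intro h
      apply c2
      rw [mul_inv_eq_one] at h
      exact mul_left_cancel (a := k) (by rw [h, mul_one])
    · rw [hy]
      calc k * u * k⁻¹ * (k * c * k⁻¹) * (k * u * k⁻¹)⁻¹ = k * (u * c * u⁻¹) * k⁻¹ := by group
        _ = (k * c * k⁻¹)⁻¹ := by rw [c3]; group
  intro y hy hy1
  rcases D.invol_cases y.2 (congrArg Subtype.val hy) (fun h => hy1 (Subtype.ext h)) with h | h
  · exact key hz h a1 a2 a3
  · exact key hd h b1 b2 b3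

theorem allInv_of {G K : Type*} [Group G] [Finite G] [Group K] (D : TData G)
    (three : ∀ g ∈ D.H, g ^ 3 = 1 → g * D.z * g⁻¹ = D.z → g = 1)
    (five : ∀ g ∈ D.H, g ^ 5 = 1 → g * D.d * g⁻¹ = D.d → g = 1) (h : InvF K) (e : K ≃* ↥D.T) : AllInv K :=
  (allInv_T D three five (h.congr e)).congr e.symm

/-- every automorphism of order two is inner -/
theorem inner_of {G K : Type*} [Group G] [Finite G] [Group K] (D : TData G) (e : K ≃* ↥D.T) (x : MulAut K)
    (hx : x * x = 1) : ∃ k : K, x = MulAut.conj k := by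
  set α : MulAut ↥D.T := e.symm.trans (x.trans e) with hα
  have hap : ∀ t, α t = e (x (e.symm t)) := fun t => rfl
  by_contra hn
  have hni : ¬ Cfsg.Agent.OddHalf.D4.Spor.Inn α := by
    rintro ⟨g, hg⟩
    apply hn
    refine ⟨e.symm g, ?_⟩
    ext k
    have h1 : α (e k) = g * e k * g⁻¹ := by rw [hg, MulAut.conj_apply]
    rw [hap, e.symm_apply_apply] at h1
    have h2 := congrArg e.symm h1
    rwa [e.symm_apply_apply, map_mul, map_mul, map_inv, e.symm_apply_apply] at h2
  refine D.no_outer_aut α hni ?_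
  ext t
  have h1 : x (x (e.symm t)) = e.symm t := by rw [← MulAut.mul_apply, hx, MulAut.one_apply]
  rw [MulAut.mul_apply, hap, hap, e.symm_apply_apply, h1, e.apply_symm_apply, MulAut.one_apply]

theorem row2_tits {K : Type*} [Group K] [Finite K] [IsSimpleGroup K] (h : Cfsg.Lie.IsoTits K) :
    Cfsg.Agent.H483.Rad23.Row23 2 K := by
  intro x hx _ _ hT
  have hc : center K = ⊥ := Cfsg.Agent.Omega.TwoF.TitsAut.center_iso h
  have hxx : x * x = 1 := by rw [← pow_two, ← hx, pow_orderOf_eq_one]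
  obtain ⟨e⟩ := nonempty_equiv h
  obtain ⟨k, rfl⟩ := inner_of tdata e x hxx
  have hinj := H839.Rad.conj_injective hc
  have hk : k * k = 1 := hinj (by rw [map_mul, hxx, map_one])
  have hk1 : k ≠ 1 := by
    rintro rfl
    rw [map_one, orderOf_one] at hx
    omega
  obtain ⟨g, g1, g2, g3⟩ := allInv_of tdata (fun g hg h3 hz => three_z hg h3 hz) (fun g hg h5 hd => five_d hg h5 hd)
    (invF h) e k hk hk1
  have : Fact (Nat.Prime 5) := ⟨Nat.prime_five⟩
  exact hT.no_inv hc Nat.prime_five le_rfl (orderOf_eq_prime g1 g2) (by rw [MulAut.conj_apply, g3])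

end Cfsg.Agent.H71.Rad2Tits
end

-- part: H842/RadTwoD
section
prune_inst 0x4000202210000018001000000020100000020040000020c00502080100012000000112f00400010080e04008800000000009020000000a000200000000000000060010501c08910000008000000000000000000000000000000000000000000000000
set_option linter.all false
open scoped Cfsg.Agent.FastGrp

-- part: H842/RadTwoC
section
/-!
# Hexads of commuting transpositions (helper842, market task 1551)

* `rad_eq_bot` : a 2-transitive group of degree six has no solvable normal subgroup;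
* `IsHx` : the hexads of a class of transpositions with `TFacts`, as finsets; `hx_split`, `hx_unique`, `exists_hx`;
* `card_hx` : `120 · (number of hexads) = 3510 · 693 · 180`;
* `exists_fixed` : an involutory automorphism of `Fi22` fixes a hexad.
-/

set_option autoImplicit false

namespace Cfsg.Agent.H842.RadTwo

open Subgroup Cfsg Cfsg.Agent.H459.Rad

/-! ### 2-transitive groups of degree six -/

section Perm

variable {Ω : Type*} [Finite Ω]

/-- a nontrivial normal subgroup of a 2-transitive group is not a `p`-group if the degree is six -/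
theorem false_of_pgroup (hΩ : Nat.card Ω = 6) {G : Subgroup (Equiv.Perm Ω)}
    (h2 : ∀ a b c d : Ω, a ≠ b → c ≠ d → ∃ g ∈ G, g a = c ∧ g b = d) {r : ℕ} (hr : r.Prime) {V : Subgroup G}
    (hV : V.Normal) (hVr : IsPGroup r V) (hV1 : V ≠ ⊥) : False := by
  obtain ⟨v, hv, hv1⟩ := V.bot_or_exists_ne_one.resolve_left hV1
  have h3 : ∃ x, (v : Equiv.Perm Ω) x ≠ x := by
    by_contra h
    push Not at h
    apply hv1
    apply Subtype.ext
    ext x
    exact h x
  obtain ⟨x, hx⟩ := h3
  set V' : Subgroup (Equiv.Perm Ω) := V.map G.subtype with hV'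
  have htr : ∀ c d : Ω, c ≠ d → ∃ w ∈ V', w c = d := by
    intro c d hcd
    obtain ⟨g, hg, h4, h5⟩ := h2 x ((v : Equiv.Perm Ω) x) c d hx.symm hcd
    refine ⟨g * v * g⁻¹, ⟨(⟨g, hg⟩ * v * ⟨g, hg⟩⁻¹ :), hV.conj_mem v hv _, rfl⟩, ?_⟩
    rw [Equiv.Perm.mul_apply, Equiv.Perm.mul_apply]
    have h6 : g⁻¹ c = x := by rw [← h4]; exact g.symm_apply_apply x
    rw [h6, h5]
  have hne : Nonempty Ω := ⟨x⟩
  have hpt : MulAction.IsPretransitive V' Ω := by
    refine ⟨fun c d => ?_⟩
    by_cases hcd : c = d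
    · exact ⟨1, by rw [one_smul]; exact hcd⟩
    · obtain ⟨w, hw, h4⟩ := htr c d hcd
      exact ⟨⟨w, hw⟩, h4⟩
  have h6 : 6 ∣ Nat.card V' := by
    have h7 := MulAction.index_stabilizer_of_transitive V' x
    rw [hΩ] at h7
    rw [← h7]
    exact index_dvd_card _
  have hVr' : IsPGroup r V' := hVr.map _
  have : Fact r.Prime := ⟨hr⟩
  obtain ⟨k, hk⟩ := IsPGroup.iff_card.1 hVr'
  rw [hk] at h6
  have h8 : 2 = r := (Nat.prime_dvd_prime_iff_eq Nat.prime_two hr).1 (Nat.prime_two.dvd_of_dvd_pow (Dvd.dvd.trans (by norm_num) h6))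
  have h9 : 3 = r := (Nat.prime_dvd_prime_iff_eq Nat.prime_three hr).1 (Nat.prime_three.dvd_of_dvd_pow (Dvd.dvd.trans (by norm_num) h6))
  omega

/-- **a 2-transitive group of degree six has trivial radical** -/
theorem rad_eq_bot (hΩ : Nat.card Ω = 6) {G : Subgroup (Equiv.Perm Ω)}
    (h2 : ∀ a b c d : Ω, a ≠ b → c ≠ d → ∃ g ∈ G, g a = c ∧ g b = d) : solvableRadical G = ⊥ := by
  by_contra h
  have hs : Group.IsSolvable (solvableRadical G) := (rad_spec G).2.1
  have hnt : Nontrivial (solvableRadical G) := (nontrivial_iff_ne_bot _).2 h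
  have hn : (solvableRadical G).Normal := rad_normal G
  obtain ⟨r, hr, N, hNc, -, hNp, hN⟩ := Lib.SolvableMinNormal.exists_characteristic_pgroup (G := solvableRadical G)
  refine false_of_pgroup hΩ h2 hr (V := N.map (solvableRadical G).subtype)
    ConjAct.normal_of_characteristic_of_normal (hNp.map _) ?_
  intro h3
  apply hN
  rwa [Subgroup.map_eq_bot_iff_of_injective _ (solvableRadical G).subtype_injective] at h3

/-- a permutation commuting with a 2-transitive group of degree six is trivial -/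
theorem eq_one_of_comm_two (hΩ : Nat.card Ω = 6) {G : Subgroup (Equiv.Perm Ω)}
    (h2 : ∀ a b c d : Ω, a ≠ b → c ≠ d → ∃ g ∈ G, g a = c ∧ g b = d) {s : Equiv.Perm Ω}
    (hs : ∀ g ∈ G, s * g = g * s) (x : Ω) : s x = x := by
  classical
  by_contra h
  have : Fintype Ω := Fintype.ofFinite Ω
  obtain ⟨z, hz1, hz2⟩ : ∃ z : Ω, z ≠ x ∧ z ≠ s x := by
    by_contra h3
    push Not at h3
    have h4 : (Finset.univ : Finset Ω) ⊆ {x, s x} := by
      intro z _
      rw [Finset.mem_insert, Finset.mem_singleton]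
      by_cases h5 : z = x
      · exact Or.inl h5
      · exact Or.inr (h3 z h5)
    have h5 := Finset.card_le_card h4
    rw [Finset.card_univ, ← Nat.card_eq_fintype_card, hΩ] at h5
    have h6 := Finset.card_le_two (a := x) (b := s x)
    omega
  obtain ⟨g, hg, h3, h4⟩ := h2 x (s x) x z (Ne.symm h) hz1.symm
  have h5 := congrArg (fun t : Equiv.Perm Ω => t x) (hs g hg)
  simp only [Equiv.Perm.mul_apply] at h5
  rw [h3, h4] at h5
  exact hz2 h5.symm

end Perm

/-! ### Hexads -/

section Hx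

open Cfsg.Agent.R01.FiFacts Cfsg.Agent.R01.FiFusion

variable {Φ : Type*} [Group Φ] {T : Set Φ}

/-- a hexad: six different pairwise commuting members of `T` with product one -/
def IsHx (T : Set Φ) (H : Finset Φ) : Prop :=
  (∀ x ∈ H, x ∈ T) ∧ (∀ x ∈ H, ∀ y ∈ H, x * y = y * x) ∧
    ∃ l : List Φ, l.Nodup ∧ (∀ x, x ∈ l ↔ x ∈ H) ∧ l.length = 6 ∧ l.prod = 1

theorem IsHx.card {H : Finset Φ} (h : IsHx T H) : H.card = 6 := by
  classical
  obtain ⟨-, -, l, h1, h2, h3, -⟩ := h
  have h4 : l.toFinset = H := by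
    ext x
    rw [List.mem_toFinset, h2]
  rw [← h4, List.toFinset_card_of_nodup h1, h3]

theorem IsHx.map {H : Finset Φ} (h : IsHx T H) (α : Φ ≃* Φ) (hα : ∀ x ∈ T, α x ∈ T) :
    IsHx T (H.map α.toEquiv.toEmbedding) := by
  obtain ⟨h0, h5, l, h1, h2, h3, h4⟩ := h
  have hm : ∀ x, x ∈ H.map α.toEquiv.toEmbedding ↔ ∃ y ∈ H, α y = x := by
    intro x
    rw [Finset.mem_map]
    rfl
  refine ⟨?_, ?_, l.map α, h1.map α.injective, ?_, by rw [List.length_map, h3], ?_⟩
  · intro x hx
    obtain ⟨y, hy, rfl⟩ := (hm x).1 hx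
    exact hα y (h0 y hy)
  · intro x hx y hy
    obtain ⟨x', hx', rfl⟩ := (hm _).1 hx
    obtain ⟨y', hy', rfl⟩ := (hm _).1 hy
    rw [← map_mul, ← map_mul, h5 x' hx' y' hy']
  · intro x
    rw [hm, List.mem_map]
    constructor
    · rintro ⟨y, hy, rfl⟩
      exact ⟨y, (h2 y).1 hy, rfl⟩
    · rintro ⟨y, hy, rfl⟩
      exact ⟨y, (h2 y).2 hy, rfl⟩
  · rw [← map_list_prod, h4, map_one]

theorem of_hex [DecidableEq Φ] {a b c d e f : Φ} (h : Hex T a b c d e f) : IsHx T {a, b, c, d, e, f} := by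
  obtain ⟨⟨ma, mb, mc, ab, ac, bc, kab, kac, kbc⟩, ⟨md, me, mf, de, df, ef, kde, kdf, kef⟩, ad, ae, af, bd, be, bf,
    cd, ce, cf, kad, kae, kaf, kbd, kbe, kbf, kcd, kce, kcf, hp⟩ := h
  refine ⟨?_, ?_, [a, b, c, d, e, f], ?_, ?_, rfl, ?_⟩
  · intro x hx
    simp only [Finset.mem_insert, Finset.mem_singleton] at hx
    rcases hx with rfl | rfl | rfl | rfl | rfl | rfl <;> assumption
  · intro x hx y hy
    simp only [Finset.mem_insert, Finset.mem_singleton] at hx hy
    rcases hx with rfl | rfl | rfl | rfl | rfl | rfl <;> rcases hy with rfl | rfl | rfl | rfl | rfl | rfl <;>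
      first | rfl | assumption | (symm; assumption)
  · simp only [List.nodup_cons, List.mem_cons, List.not_mem_nil, or_false, not_or, List.nodup_nil, and_true,
      not_false_eq_true]
    exact ⟨⟨ab, ac, ad, ae, af⟩, ⟨bc, bd, be, bf⟩, ⟨cd, ce, cf⟩, ⟨de, df⟩, ef⟩
  · intro x
    simp only [List.mem_cons, List.not_mem_nil, or_false, Finset.mem_insert, Finset.mem_singleton]
  · simp only [List.prod_cons, List.prod_nil, mul_one]
    rw [← hp]
    simp only [mul_assoc]

/-- a hexad with three marked members -/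
theorem hx_split [DecidableEq Φ] {H : Finset Φ} (h : IsHx T H) {x y z : Φ} (hx : x ∈ H) (hy : y ∈ H) (hz : z ∈ H)
    (hxy : x ≠ y) (hxz : x ≠ z) (hyz : y ≠ z) : ∃ u v w, Hex T x y z u v w ∧ H = {x, y, z, u, v, w} := by
  have hc := h.card
  obtain ⟨h0, h5, l, h1, h2, h3, h4⟩ := h
  have hy' : y ∈ H.erase x := Finset.mem_erase.2 ⟨hxy.symm, hy⟩
  have hz' : z ∈ (H.erase x).erase y := Finset.mem_erase.2 ⟨hyz.symm, Finset.mem_erase.2 ⟨hxz.symm, hz⟩⟩
  have hc3 : (((H.erase x).erase y).erase z).card = 3 := by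
    rw [Finset.card_erase_of_mem hz', Finset.card_erase_of_mem hy', Finset.card_erase_of_mem hx, hc]
  obtain ⟨u, v, w, huv, huw, hvw, hH⟩ := Finset.card_eq_three.1 hc3
  have key : ∀ t, t ∈ ({u, v, w} : Finset Φ) → t ∈ H ∧ t ≠ x ∧ t ≠ y ∧ t ≠ z := by
    intro t ht
    rw [← hH, Finset.mem_erase, Finset.mem_erase, Finset.mem_erase] at ht
    exact ⟨ht.2.2.2, ht.2.2.1, ht.2.1, ht.1⟩
  obtain ⟨mu, ux, uy, uz⟩ := key u (by simp)
  obtain ⟨mv, vx, vy, vz⟩ := key v (by simp)
  obtain ⟨mw, wx, wy, wz⟩ := key w (by simp)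
  have hHe : H = {x, y, z, u, v, w} := by
    ext t
    simp only [Finset.mem_insert, Finset.mem_singleton]
    constructor
    · intro ht
      by_cases t1 : t = x
      · exact Or.inl t1
      by_cases t2 : t = y
      · exact Or.inr (Or.inl t2)
      by_cases t3 : t = z
      · exact Or.inr (Or.inr (Or.inl t3))
      have h6 : t ∈ ({u, v, w} : Finset Φ) := by
        rw [← hH, Finset.mem_erase, Finset.mem_erase, Finset.mem_erase]
        exact ⟨t3, t2, t1, ht⟩
      simp only [Finset.mem_insert, Finset.mem_singleton] at h6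
      exact Or.inr (Or.inr (Or.inr h6))
    · rintro (rfl | rfl | rfl | rfl | rfl | rfl) <;> assumption
  have hnd : [x, y, z, u, v, w].Nodup := by
    simp only [List.nodup_cons, List.mem_cons, List.not_mem_nil, or_false, not_or, List.nodup_nil, and_true,
      not_false_eq_true]
    exact ⟨⟨hxy, hxz, ux.symm, vx.symm, wx.symm⟩, ⟨hyz, uy.symm, vy.symm, wy.symm⟩, ⟨uz.symm, vz.symm, wz.symm⟩,
      ⟨huv, huw⟩, hvw⟩
  have hperm : l.Perm [x, y, z, u, v, w] := by
    rw [List.perm_ext_iff_of_nodup h1 hnd]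
    intro t
    rw [h2, hHe]
    simp only [List.mem_cons, List.not_mem_nil, or_false, Finset.mem_insert, Finset.mem_singleton]
  have hp : [x, y, z, u, v, w].prod = 1 := by
    rw [← h4]
    refine (hperm.prod_eq' ?_).symm
    exact List.pairwise_of_forall_mem_list fun a ha b hb => h5 a ((h2 a).1 ha) b ((h2 b).1 hb)
  refine ⟨u, v, w, ?_, hHe⟩
  exact
    { t := ⟨h0 x hx, h0 y hy, h0 z hz, hxy, hxz, hyz, h5 x hx y hy, h5 x hx z hz, h5 y hy z hz⟩
      t' := ⟨h0 u mu, h0 v mv, h0 w mw, huv, huw, hvw, h5 u mu v mv, h5 u mu w mw, h5 v mv w mw⟩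
      aa := ux.symm
      ab := vx.symm
      ac := wx.symm
      ba := uy.symm
      bb := vy.symm
      bc := wy.symm
      ca := uz.symm
      cb := vz.symm
      cc := wz.symm
      caa := h5 x hx u mu
      cab := h5 x hx v mv
      cac := h5 x hx w mw
      cba := h5 y hy u mu
      cbb := h5 y hy v mv
      cbc := h5 y hy w mw
      cca := h5 z hz u mu
      ccb := h5 z hz v mv
      ccc := h5 z hz w mw
      prod := by
        rw [← hp]
        simp only [List.prod_cons, List.prod_nil, mul_one, mul_assoc] }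

/-- three members determine the hexad -/
theorem hx_unique (tf : TFacts T) {H H' : Finset Φ} (h : IsHx T H) (h' : IsHx T H') {x y z : Φ}
    (hx : x ∈ H) (hy : y ∈ H) (hz : z ∈ H) (hx' : x ∈ H') (hy' : y ∈ H') (hz' : z ∈ H')
    (hxy : x ≠ y) (hxz : x ≠ z) (hyz : y ≠ z) : H' = H := by
  classical
  obtain ⟨u, v, w, h1, h2⟩ := hx_split h hx hy hz hxy hxz hyz
  obtain ⟨u', v', w', h1', h2'⟩ := hx_split h' hx' hy' hz' hxy hxz hyz
  obtain ⟨e1, e2, e3⟩ := tf.uniq _ _ _ _ _ _ _ _ _ h1 h1'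
  refine Finset.eq_of_subset_of_card_le ?_ (by rw [h.card, h'.card])
  rw [h2, h2']
  intro t ht
  simp only [Finset.mem_insert, Finset.mem_singleton] at ht ⊢
  rcases ht with rfl | rfl | rfl | rfl | rfl | rfl
  · (clear * -; tauto)
  · (clear * -; tauto)
  · (clear * -; tauto)
  · rcases e1 with e | e | e <;> rw [e] <;> (clear * -; tauto)
  · rcases e2 with e | e | e <;> rw [e] <;> (clear * -; tauto)
  · rcases e3 with e | e | e <;> rw [e] <;> (clear * -; tauto)

theorem exists_hx (tf : TFacts T) {x y z : Φ} (h : Tri T x y z) : ∃ H, IsHx T H ∧ x ∈ H ∧ y ∈ H ∧ z ∈ H := by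
  classical
  obtain ⟨u, v, w, h1⟩ := tf.hex x y z h
  exact ⟨_, of_hex h1, by simp, by simp, by simp⟩

/-! ### The number of hexads -/

open Classical in
/-- the hexads -/
noncomputable def HX (T : Set Φ) [Fintype Φ] : Finset (Finset Φ) := Finset.univ.filter (IsHx T)

open Classical in
theorem card_hx [Fintype Φ] (tf : TFacts T) (h0 : T.ncard = 3510)
    (h1 : ∀ a ∈ T, {c | c ∈ T ∧ c ≠ a ∧ a * c = c * a}.ncard = 693)
    (h2 : ∀ a ∈ T, ∀ b ∈ T, a ≠ b → a * b = b * a →
      {c | c ∈ T ∧ c ≠ a ∧ c ≠ b ∧ a * c = c * a ∧ b * c = c * b}.ncard = 180) :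
    (HX T).card * 120 = 3510 * (693 * 180) := by
  set TF : Finset Φ := Finset.univ.filter (· ∈ T) with hTF
  set N1 : Φ → Finset Φ := fun a => Finset.univ.filter (fun c => c ∈ T ∧ c ≠ a ∧ a * c = c * a) with hN1
  set N2 : Φ → Φ → Finset Φ := fun a b => Finset.univ.filter
    (fun c => c ∈ T ∧ c ≠ a ∧ c ≠ b ∧ a * c = c * a ∧ b * c = c * b) with hN2
  have c0 : TF.card = 3510 := by
    have e : T = ((TF : Finset Φ) : Set Φ) := by ext; simp [hTF]
    rw [← h0, ← Set.ncard_coe_finset, ← e]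
  have c1 : ∀ a ∈ TF, (N1 a).card = 693 := by
    intro a ha
    have e : {c | c ∈ T ∧ c ≠ a ∧ a * c = c * a} = ((N1 a : Finset Φ) : Set Φ) := by ext; simp only [hN1, _root_.ne_eq, _root_.Set.sep_and, _root_.Set.mem_inter_iff, _root_.Set.mem_ofPred_eq, _root_.Finset.coe_filter, _root_.Finset.mem_univ, _root_.true_and]
    rw [← h1 a (by simpa [hTF] using ha), e, Set.ncard_coe_finset]
  have c2 : ∀ a ∈ TF, ∀ b ∈ N1 a, (N2 a b).card = 180 := by
    intro a ha b hb
    simp only [hN1, Finset.mem_filter, Finset.mem_univ, true_and] at hb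
    have e : {c | c ∈ T ∧ c ≠ a ∧ c ≠ b ∧ a * c = c * a ∧ b * c = c * b} = ((N2 a b : Finset Φ) : Set Φ) := by
      ext; simp only [hN2, _root_.ne_eq, _root_.Set.sep_and, _root_.Set.mem_inter_iff, _root_.Set.mem_ofPred_eq, _root_.Finset.coe_filter, _root_.Finset.mem_univ, _root_.true_and]
    rw [← h2 a (by simpa [hTF] using ha) b hb.1 hb.2.1.symm hb.2.2, e, Set.ncard_coe_finset]
  set Ts : Finset (Σ _ : Φ, Σ _ : Φ, Φ) := TF.sigma fun a => (N1 a).sigma fun b => N2 a b with hTs
  have cT : Ts.card = 3510 * (693 * 180) := by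
    rw [hTs, Finset.card_sigma, Finset.sum_congr rfl (g := fun _ => 693 * 180), Finset.sum_const, smul_eq_mul, c0]
    intro a ha
    rw [Finset.card_sigma, Finset.sum_congr rfl (g := fun _ => 180), Finset.sum_const, smul_eq_mul, c1 a ha]
    intro b hb
    exact c2 a ha b hb
  have mT : ∀ t : (Σ _ : Φ, Σ _ : Φ, Φ), t ∈ Ts ↔ Tri T t.1 t.2.1 t.2.2 := by
    rintro ⟨a, b, c⟩
    simp only [hTs, hTF, hN1, hN2, Finset.mem_sigma, Finset.mem_filter, Finset.mem_univ, true_and]
    constructor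
    · rintro ⟨ha, ⟨hb, hba, kab⟩, hc, hca, hcb, kac, kbc⟩
      exact ⟨ha, hb, hc, hba.symm, hca.symm, hcb.symm, kab, kac, kbc⟩
    · rintro ⟨ha, hb, hc, hab, hac, hbc, kab, kac, kbc⟩
      exact ⟨ha, ⟨hb, hab.symm, kab⟩, hc, hac.symm, hbc.symm, kac, kbc⟩
  let r : (Σ _ : Φ, Σ _ : Φ, Φ) → Finset Φ → Prop := fun t H => t.1 ∈ H ∧ t.2.1 ∈ H ∧ t.2.2 ∈ H
  have key := Finset.sum_card_bipartiteAbove_eq_sum_card_bipartiteBelow (s := Ts) (t := HX T) r
  have k1 : ∀ t ∈ Ts, (Finset.bipartiteAbove r (HX T) t).card = 1 := by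
    intro t ht
    have ht' := (mT t).1 ht
    obtain ⟨H, hH, m1, m2, m3⟩ := exists_hx tf ht'
    rw [Finset.card_eq_one]
    refine ⟨H, ?_⟩
    ext H'
    rw [Finset.mem_bipartiteAbove, Finset.mem_singleton, HX, Finset.mem_filter]
    constructor
    · rintro ⟨⟨-, h3⟩, n1, n2, n3⟩
      exact hx_unique tf hH h3 m1 m2 m3 n1 n2 n3 ht'.xy ht'.xw ht'.yw
    · rintro rfl
      exact ⟨⟨Finset.mem_univ _, hH⟩, m1, m2, m3⟩
  have k2 : ∀ H ∈ HX T, (Finset.bipartiteBelow r Ts H).card = 120 := by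
    intro H hH
    have hH' : IsHx T H := (Finset.mem_filter.1 hH).2
    have e1 : Finset.bipartiteBelow r Ts H = H.sigma fun a => (H.erase a).sigma fun b => (H.erase a).erase b := by
      ext ⟨a, b, c⟩
      rw [Finset.mem_bipartiteBelow, mT]
      simp only [Finset.mem_sigma, Finset.mem_erase]
      constructor
      · rintro ⟨ht, ma, mb, mc⟩
        exact ⟨ma, ⟨ht.xy.symm, mb⟩, ht.yw.symm, ht.xw.symm, mc⟩
      · rintro ⟨ma, ⟨hba, mb⟩, hcb, hca, mc⟩
        exact ⟨⟨hH'.1 a ma, hH'.1 b mb, hH'.1 c mc, hba.symm, hca.symm, hcb.symm, hH'.2.1 a ma b mb,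
          hH'.2.1 a ma c mc, hH'.2.1 b mb c mc⟩, ma, mb, mc⟩
    rw [e1, Finset.card_sigma, Finset.sum_congr rfl (g := fun _ => 5 * 4), Finset.sum_const, smul_eq_mul, hH'.card]
    intro a ha
    rw [Finset.card_sigma, Finset.sum_congr rfl (g := fun _ => 4), Finset.sum_const, smul_eq_mul,
      Finset.card_erase_of_mem ha, hH'.card]
    intro b hb
    rw [Finset.card_erase_of_mem hb, Finset.card_erase_of_mem ha, hH'.card]
  rw [Finset.sum_congr rfl k1, Finset.sum_congr rfl k2, Finset.sum_const, Finset.sum_const, smul_eq_mul, smul_eq_mul,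
    cT] at key
  omega

open Classical in
/-- **an involutory automorphism fixes a hexad** -/
theorem exists_fixed [Fintype Φ] (hodd : Odd (HX T).card) (α : Φ ≃* Φ) (hα : ∀ x ∈ T, α x ∈ T)
    (h2 : ∀ x, α (α x) = x) : ∃ H, IsHx T H ∧ H.map α.toEquiv.toEmbedding = H := by
  by_contra hcon
  push Not at hcon
  have hs : (∑ _H ∈ HX T, (1 : ZMod 2)) = 0 := by
    refine Finset.sum_involution (fun H _ => H.map α.toEquiv.toEmbedding) ?_ ?_ ?_ ?_
    · intro H _
      decide
    · intro H hH _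
      exact hcon H (Finset.mem_filter.1 hH).2
    · intro H hH
      exact Finset.mem_filter.2 ⟨Finset.mem_univ _, (Finset.mem_filter.1 hH).2.map α hα⟩
    · intro H _
      ext x
      simp only [Finset.mem_map]
      constructor
      · rintro ⟨_, ⟨y, hy, rfl⟩, rfl⟩
        have : α (α y) = y := h2 y
        change α (α y) ∈ H
        rwa [this]
      · intro hx
        exact ⟨α x, ⟨x, hx, rfl⟩, h2 x⟩
  rw [Finset.sum_const, nsmul_eq_mul, mul_one, ZMod.natCast_eq_zero_iff_even] at hs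
  exact (Nat.not_even_iff_odd.2 hodd) hs

end Hx

end Cfsg.Agent.H842.RadTwo
end

-- part: H842/RadTwoD
section
/-!
# Radical involutory automorphisms: `Fi22` (helper842, market task 1551)

* `no_fix22` : a radical automorphism `≠ 1` fixes no transposition;
* `row2_fi22` : an involutory automorphism fixes a hexad (the number of hexads is odd); if it is radical then it
  centralizes the 2-transitive group induced on the hexad.
-/

set_option autoImplicit false

namespace Cfsg.Agent.H842.RadTwo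

open Subgroup Cfsg Cfsg.Agent.H459.Rad Cfsg.Agent.H483.Rad23
open Cfsg.Agent.R01.FiFacts Cfsg.Agent.R01.FiFusion

section Fi22

open Cfsg.Agent.R08.AutT (T tFacts)

theorem kt : OddHalf.D8.Fi22.KTrans Spor.Fi22 T := OddHalf.D8.Fi22.kTrans0

theorem center22 {t : Spor.Fi22} (ht : t ∈ T) : t ∉ center Spor.Fi22 := by
  intro h
  have hs : IsSimpleGroup Spor.Fi22 := R01.Fi22Facts.isSimple
  rcases (inferInstance : (center Spor.Fi22).Normal).eq_bot_or_eq_top with h1 | h1
  · rw [h1, mem_bot] at h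
    exact kt.ne1 t ht h
  · obtain ⟨a, ha, b, hb, hab, hc⟩ := kt.pair
    obtain ⟨c, -, hca, -⟩ := tFacts.link a ha b hb hab hc
    apply hca
    have h2 : a ∈ center Spor.Fi22 := by rw [h1]; trivial
    exact mem_center_iff.1 h2 c

theorem quasi22 {t : Spor.Fi22} (ht : t ∈ T) : IsQuasisimple ↥(centralizer ({t} : Set Spor.Fi22)) := by
  have ht' : t ∈ KFacts.FiTT.TK (MulEquiv.refl Spor.Fi22) := by rw [H833.F22Cnt.TK_refl]; exact ht
  obtain ⟨π, lift, B⟩ := LThreeFi22.Inst.base_at (MulEquiv.refl Spor.Fi22) ht'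
  exact B.facts.quasi

/-- **a radical automorphism `≠ 1` fixes no transposition** -/
theorem no_fix22 [Finite Spor.Fi22] {α : MulAut Spor.Fi22} (hR : RC α) (h1 : α ≠ 1) {d : Spor.Fi22} (hd : d ∈ T) :
    α d ≠ d := by
  intro hαd
  have step : ∀ t ∈ T, α t = t → ∀ c ∈ T, c * t = t * c → α c = c := by
    intro t ht hαt c _ hct
    refine hR.eq_of_quasisimple (M := centralizer ({t} : Set Spor.Fi22)) ?_ ?_ (quasi22 ht)
      (mem_centralizer_singleton_iff.2 hct)
    · intro h
      apply center22 ht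
      rw [mem_center_iff]
      intro k
      exact mem_centralizer_singleton_iff.1 (h ▸ mem_top k)
    · intro m hm
      rw [mem_centralizer_singleton_iff] at hm ⊢
      have h2 := congrArg α hm
      rwa [map_mul, map_mul, hαt] at h2
  have hall : ∀ y ∈ T, α y = y := by
    intro y hy
    obtain ⟨c, hc, -, -, hcd, hcy⟩ := kt.nb d hd y hy
    exact step c hc (step d hd hαd c hc hcd) y hy hcy.symm
  apply h1
  have h2 : (⊤ : Subgroup Spor.Fi22) ≤ MonoidHom.eqLocus α.toMonoidHom (MonoidHom.id Spor.Fi22) := by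
    rw [← kt.gen, closure_le]
    intro y hy
    exact hall y hy
  ext x
  exact h2 (mem_top x)

/-- the action of the normalizer of a set on this set -/
def actS {G : Type*} [Group G] (S : Set G) : ↥(Subgroup.normalizer S) →* Equiv.Perm ↥S where
  toFun g :=
    { toFun := fun t => ⟨g * t * (g : G)⁻¹, (g.2 t).1 t.2⟩
      invFun := fun t => ⟨(g : G)⁻¹ * t * g, (g.2 _).2 (by
        have : (g : G) * ((g : G)⁻¹ * t * g) * (g : G)⁻¹ = t := by group
        rw [this]; exact t.2)⟩
      left_inv := fun t => Subtype.ext (by show (g : G)⁻¹ * (g * t * (g : G)⁻¹) * g = t; group)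
      right_inv := fun t => Subtype.ext (by show (g : G) * ((g : G)⁻¹ * t * g) * (g : G)⁻¹ = t; group) }
  map_one' := by
    ext t
    show (1 : G) * t * (1 : G)⁻¹ = t
    group
  map_mul' g k := by
    ext t
    show ((g : G) * k) * t * ((g : G) * k)⁻¹ = g * (k * t * (k : G)⁻¹) * (g : G)⁻¹
    group

theorem odd_hx [Fintype Spor.Fi22] : Odd (HX T).card := by
  have h := card_hx tFacts H833.F22Cnt.ctx.ncard H833.F22Cnt.ctx.link
    (fun a ha b hb hne hab => H833.F22Cnt.lam ha hb hne hab)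
  have h2 : (HX T).card = 3648645 := by omega
  rw [h2]
  decide

/-- **`NoRC 2` for `Fi22`** -/
theorem noRC_fi22_model [Finite Spor.Fi22] : NoRC 2 Spor.Fi22 := by
  classical
  intro α hα hR
  have : Fintype Spor.Fi22 := Fintype.ofFinite _
  have h1 : α ≠ 1 := by
    rintro rfl
    rw [orderOf_one] at hα
    omega
  have h2 : ∀ x, α (α x) = x := by
    intro x
    have h3 : α * α = 1 := by rw [← pow_two, ← hα, pow_orderOf_eq_one]
    exact DFunLike.congr_fun h3 x
  obtain ⟨H, hH, hαH⟩ := exists_fixed odd_hx α (kt.aut α) h2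
  have hmem : ∀ x, x ∈ H → α x ∈ H := by
    intro x hx
    have h3 : α x ∈ H.map α.toEquiv.toEmbedding := Finset.mem_map.2 ⟨x, hx, rfl⟩
    rwa [hαH] at h3
  have hmem' : ∀ x, α x ∈ H ↔ x ∈ H := fun x => ⟨fun h => by have := hmem _ h; rwa [h2] at this, hmem x⟩
  set S : Set Spor.Fi22 := (H : Set Spor.Fi22) with hS
  have hmS : ∀ x, x ∈ S ↔ x ∈ H := fun x => Finset.mem_coe
  have hcard : Nat.card ↥S = 6 := by
    rw [← hH.card, ← Set.ncard_coe_finset]
    rfl
  set M : Subgroup Spor.Fi22 := Subgroup.normalizer S with hM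
  -- a third member
  have third : ∀ a b : Spor.Fi22, ∃ e ∈ H, e ≠ a ∧ e ≠ b := by
    intro a b
    by_contra h
    push Not at h
    have h3 : H ⊆ {a, b} := by
      intro z hz
      rw [Finset.mem_insert, Finset.mem_singleton]
      by_cases h5 : z = a
      · exact Or.inl h5
      · exact Or.inr (h z hz h5)
    have h5 := Finset.card_le_card h3
    have h6 := Finset.card_le_two (a := a) (b := b)
    rw [hH.card] at h5
    omega
  have htri : ∀ a b e : Spor.Fi22, a ∈ H → b ∈ H → e ∈ H → a ≠ b → e ≠ a → e ≠ b → Tri T a b e := fun a b e ha hb he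
    hab hea heb => ⟨hH.1 a ha, hH.1 b hb, hH.1 e he, hab, hea.symm, heb.symm, hH.2.1 a ha b hb, hH.2.1 a ha e he,
      hH.2.1 b hb e he⟩
  -- two-transitivity
  have htr : ∀ a b c d : ↥S, a ≠ b → c ≠ d → ∃ g ∈ (actS S).range, g a = c ∧ g b = d := by
    intro a b c d hab hcd
    have hab' : (a : Spor.Fi22) ≠ b := fun h => hab (Subtype.ext h)
    have hcd' : (c : Spor.Fi22) ≠ d := fun h => hcd (Subtype.ext h)
    have ma := (hmS _).1 a.2
    have mb := (hmS _).1 b.2
    have mc := (hmS _).1 c.2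
    have md := (hmS _).1 d.2
    obtain ⟨e, he, hea, heb⟩ := third a b
    obtain ⟨e', he', hec, hed⟩ := third c d
    obtain ⟨g, g1, g2, g3⟩ := tFacts.tri _ _ _ _ _ _ (htri a b e ma mb he hab' hea heb)
      (htri c d e' mc md he' hcd' hec hed)
    have hgT : ∀ x ∈ T, MulAut.conj g x ∈ T := fun x hx => kt.conj g x hx
    have hHg := hH.map (MulAut.conj g) hgT
    have hg' : ∀ x ∈ H, g * x * g⁻¹ ∈ H.map (MulAut.conj g).toEquiv.toEmbedding := fun x hx =>
      Finset.mem_map.2 ⟨x, hx, rfl⟩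
    have heq : H.map (MulAut.conj g).toEquiv.toEmbedding = H :=
      hx_unique tFacts hH hHg mc md he' (g1 ▸ hg' a ma) (g2 ▸ hg' b mb) (g3 ▸ hg' e he) hcd' hec.symm hed.symm
    have hgM : g ∈ M := by
      intro n
      rw [hmS, hmS]
      constructor
      · intro hn
        have := hg' n hn
        rwa [heq] at this
      · intro hn
        rw [← heq] at hn
        obtain ⟨y, hy, hyn⟩ := Finset.mem_map.1 hn
        have hyn' : g * y * g⁻¹ = g * n * g⁻¹ := hyn
        have h3 : y = n := by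
          have := mul_right_cancel hyn'
          exact mul_left_cancel this
        rwa [← h3]
    exact ⟨actS S ⟨g, hgM⟩, ⟨_, rfl⟩, Subtype.ext g1, Subtype.ext g2⟩
  have hQ : solvableRadical ↥(actS S).range = ⊥ := rad_eq_bot hcard htr
  have hMt : M ≠ ⊤ := by
    intro h
    obtain ⟨x, hx, -⟩ := third 1 1
    have h3 : T ⊆ S := by
      intro y hy
      obtain ⟨g, hg⟩ := kt.trans x (hH.1 x hx) y hy
      have hgM : g ∈ M := by rw [h]; exact mem_top _
      have := (hgM x).1 hx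
      rwa [hg] at this
    have h4 := Set.ncard_le_ncard h3 (Set.toFinite S)
    rw [hS, Set.ncard_coe_finset, hH.card, H833.F22Cnt.ctx.ncard] at h4
    omega
  have hinv : ∀ m ∈ M, α m ∈ M := by
    intro m hm n
    rw [hmS, hmS]
    have h3 := hm (α n)
    rw [hmS, hmS] at h3
    rw [← hmem' n, h3, ← hmem' (m * α n * m⁻¹), map_mul, map_mul, map_inv, h2]
  let σ : Equiv.Perm ↥S :=
    { toFun := fun t => ⟨α t, (hmem' t).2 t.2⟩
      invFun := fun t => ⟨α t, (hmem' t).2 t.2⟩
      left_inv := fun t => Subtype.ext (h2 t)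
      right_inv := fun t => Subtype.ext (h2 t) }
  have hσ : ∀ g ∈ (actS S).range, σ * g = g * σ := by
    rintro _ ⟨m, rfl⟩
    have h3 := hR.map_eq hMt hinv (actS S).rangeRestrict (actS S).rangeRestrict_surjective hQ m
    have h4 : actS S ⟨α m, hinv m m.2⟩ = actS S m := congrArg Subtype.val h3
    ext t
    show α (m * t * (m : Spor.Fi22)⁻¹) = m * α t * (m : Spor.Fi22)⁻¹
    have h5 := congrArg (fun p : Equiv.Perm ↥S => (p (σ t) : Spor.Fi22)) h4
    have h6 : α m * α t * (α m)⁻¹ = m * α t * (m : Spor.Fi22)⁻¹ := h5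
    rw [map_mul, map_mul, map_inv, h6]
  obtain ⟨x, hx, -⟩ := third 1 1
  have h7 := eq_one_of_comm_two hcard htr hσ ⟨x, hx⟩
  exact no_fix22 hR h1 (hH.1 x hx) (congrArg Subtype.val h7)

/-- **Row `Fi22`, order two** -/
theorem row2_fi22 {K : Type*} [Group K] [Finite K] [IsSimpleGroup K] (h : Cfsg.Spor.IsoFi22 K) :
    Cfsg.Agent.H483.Rad23.Row23 2 K := by
  obtain ⟨e⟩ := h
  have : Finite Spor.Fi22 := Finite.of_equiv K e.toEquiv
  exact (noRC_fi22_model.congr e).row

end Fi22

end Cfsg.Agent.H842.RadTwo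
end

private theorem dce_8c04c7459f9a : _root_.True := by
  try have : _root_.True := by simp only [_root_.Cfsg.Agent.H842.RadTwo.HX.eq_1]
  exact _root_.True.intro
end

-- part: H842/RadTwoA
section
set_option linter.all false
open scoped Cfsg.Agent.FastGrp

/-!
# Radical involutory automorphisms: general lemmas and `Fi23` (helper842, market task 1551)

* `exists_conj_mem` : an involution lies in a conjugate of a subgroup of odd index;
* `eq_of_quasi` : a radical `conj x`, `x` commuting with `t`, `C(t)` quasisimple with centre `⟨t⟩`: `x = 1` or `x = t`;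
* `row2_fi23`.
-/

set_option autoImplicit false

namespace Cfsg.Agent.H842.RadTwo

open Subgroup Cfsg Cfsg.Agent.H459.Rad Cfsg.Agent.H459.Iface Cfsg.Agent.H839.Rad Cfsg.Agent.H483.Rad23

/-- an involution lies in a conjugate of every subgroup of odd index -/
theorem exists_conj_mem {K : Type*} [Group K] [Finite K] {H : Subgroup K} (h : Odd H.index) {x : K}
    (hx : x * x = 1) : ∃ g : K, g * x * g⁻¹ ∈ H := by
  have : Fact (Nat.Prime 2) := ⟨Nat.prime_two⟩
  obtain ⟨P⟩ : Nonempty (Sylow 2 H) := inferInstance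
  have h1 : IsPGroup 2 ((P : Subgroup H).map H.subtype) := P.isPGroup'.map _
  have h2 : ¬ 2 ∣ ((P : Subgroup H).map H.subtype).index := by
    have h3 : ((P : Subgroup H).map H.subtype).index = (P : Subgroup H).index * H.index := by
      rw [Subgroup.index_map_subtype]
    rw [h3, Nat.prime_two.dvd_mul]
    rintro (h4 | h4)
    · exact P.not_dvd_index' Subgroup.index_ne_zero_of_finite h4
    · exact (Nat.not_even_iff_odd.2 h) (even_iff_two_dvd.2 h4)
  set S : Sylow 2 K := h1.toSylow h2 with hS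
  have hSH : ∀ y ∈ S, y ∈ H := by
    rintro _ ⟨y, -, rfl⟩
    exact y.2
  have h3 : IsPGroup 2 (zpowers x) := by
    intro ⟨y, hy⟩
    obtain ⟨k, rfl⟩ := mem_zpowers_iff.1 hy
    refine ⟨1, Subtype.ext ?_⟩
    show (x ^ k) ^ 2 ^ 1 = 1
    rw [pow_one, ← zpow_natCast, ← zpow_mul, mul_comm, zpow_mul, zpow_natCast, pow_two, hx, one_zpow]
  obtain ⟨Q, hQ⟩ := h3.exists_le_sylow
  obtain ⟨g, hg⟩ := MulAction.exists_smul_eq K Q S
  refine ⟨g, hSH _ ?_⟩
  rw [← hg]
  exact Subgroup.smul_mem_pointwise_smul x (MulAut.conj g) _ (hQ (mem_zpowers x))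

/-- a radical inner automorphism `conj x`, `x` commuting with `t`, where `C(t)` is quasisimple with centre `⟨t⟩` -/
theorem eq_of_quasi {K : Type*} [Group K] [Finite K] {x t : K}
    (h : RC (MulAut.conj x)) (ht : t ∉ center K) (hxt : x * t = t * x)
    (hq : IsQuasisimple ↥(centralizer ({t} : Set K)))
    (hc : ∀ y : K, (∀ g, g * t = t * g → y * g = g * y) → y = 1 ∨ y = t) : x = 1 ∨ x = t := by
  refine hc x fun g hg => ?_
  have hM : centralizer ({t} : Set K) ≠ ⊤ := by
    intro h1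
    apply ht
    rw [mem_center_iff]
    intro k
    exact mem_centralizer_singleton_iff.1 (h1 ▸ mem_top k)
  have hx : ∀ m ∈ centralizer ({t} : Set K), MulAut.conj x m ∈ centralizer ({t} : Set K) := by
    intro m hm
    have hxm : x ∈ centralizer ({t} : Set K) := mem_centralizer_singleton_iff.2 hxt
    rw [MulAut.conj_apply]
    exact mul_mem (mul_mem hxm hm) (inv_mem hxm)
  have h1 := h.eq_of_quasisimple hM hx hq (mem_centralizer_singleton_iff.2 hg)
  rw [MulAut.conj_apply, mul_inv_eq_iff_eq_mul] at h1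
  exact h1

theorem orderOf_of_conj {K : Type*} [Group K] {x : K} (h : orderOf (MulAut.conj x) = 2) (hc : center K = ⊥) :
    x * x = 1 ∧ x ≠ 1 := by
  rw [orderOf_injective _ (conj_injective hc)] at h
  refine ⟨by rw [← pow_two, ← h, pow_orderOf_eq_one], ?_⟩
  rintro rfl
  rw [orderOf_one] at h
  omega

/-! ### `Fi23` -/

section Fi23

open Cfsg.Agent.Fischer.Fi23Z (z0)

theorem center_fi23 : center Spor.Fi23 = ⊥ := by
  have : IsSimpleGroup Spor.Fi23 := Fischer.Fi23Simple.isFi23.1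
  rcases (inferInstance : (center Spor.Fi23).Normal).eq_bot_or_eq_top with h | h
  · exact h
  · exfalso
    apply Fischer.Fi23Class.z0_ncomm
    have h1 : z0 ∈ center Spor.Fi23 := by rw [h]; trivial
    exact (mem_center_iff.1 h1 _).symm

theorem index_fi23 : Odd (centralizer ({z0} : Set Spor.Fi23)).index := by
  have h : (Cfsg.Agent.SporRec.Fi23Index.H : Subgroup Spor.Fi23).index = 31671 := by
    rw [← Cfsg.Agent.Fischer.Fi23Simple.H_eq_index]
    exact Cfsg.Agent.Fischer.Fi23Simple.index_H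
  have h' : (Cfsg.Agent.Fischer.Fi23Class.K).index = 31671 := h
  have hKc : Cfsg.Agent.Fischer.Fi23Class.K = centralizer ({z0} : Set Spor.Fi23) := by
    ext x
    rw [KFacts.FiTTh.Cent.mem_K_iff, mem_centralizer_singleton_iff]
  rw [← hKc, h']
  decide

/-- a radical inner automorphism commuting with the conjugate `k z₀ k⁻¹` -/
theorem eq_of_comm23 [Finite Spor.Fi23] {x : Spor.Fi23} (h : RC (MulAut.conj x)) (k : Spor.Fi23)
    (hk : x * (k * z0 * k⁻¹) = k * z0 * k⁻¹ * x) : x = 1 ∨ x = k * z0 * k⁻¹ := by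
  have h1 := rc_conj h k⁻¹
  rw [inv_inv] at h1
  have h2 : k⁻¹ * x * k * z0 = z0 * (k⁻¹ * x * k) := by
    calc k⁻¹ * x * k * z0 = k⁻¹ * (x * (k * z0 * k⁻¹)) * k := by group
      _ = k⁻¹ * (k * z0 * k⁻¹ * x) * k := by rw [hk]
      _ = z0 * (k⁻¹ * x * k) := by group
  have hz : z0 ∉ center Spor.Fi23 := fun h4 => Fischer.Fi23Class.z0_ncomm ((mem_center_iff.1 h4 _).symm)
  rcases eq_of_quasi h1 hz h2 KFacts.FiTTh.Quasi.qs KFacts.FiTTh.Quasi.cen with h3 | h3
  · left
    calc x = k * (k⁻¹ * x * k) * k⁻¹ := by group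
      _ = 1 := by rw [h3]; group
  · right
    calc x = k * (k⁻¹ * x * k) * k⁻¹ := by group
      _ = k * z0 * k⁻¹ := by rw [h3]

/-- **`NoRC 2` for `Fi23`** -/
theorem noRC_fi23_model [Finite Spor.Fi23] : NoRC 2 Spor.Fi23 := by
  intro α hα hR
  obtain ⟨x, rfl⟩ := KFacts.FiTTh.Has.inn α
  obtain ⟨hx2, hx1⟩ := orderOf_of_conj hα center_fi23
  obtain ⟨g, hg⟩ := exists_conj_mem index_fi23 hx2
  have h1 := rc_conj hR g
  have h2 := mem_centralizer_singleton_iff.1 hg
  have h3 : g * x * g⁻¹ = z0 := by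
    rcases eq_of_comm23 h1 1 (by simpa using h2) with h3 | h3
    · exfalso
      apply hx1
      calc x = g⁻¹ * (g * x * g⁻¹) * g := by group
        _ = 1 := by rw [h3]; group
    · simpa using h3
  rw [h3] at h1
  -- another transposition commuting with `z₀`
  obtain ⟨k, -, hk⟩ := KFacts.FiTTh.BasFi.exists_e 0
  have hc : z0 * KFacts.FiTTh.BasFi.e (some 0) = KFacts.FiTTh.BasFi.e (some 0) * z0 := by
    rw [← KFacts.FiTTh.BasFi.e_z]
    exact KFacts.FiTTh.BasFi.e_comm _ _
  rcases eq_of_comm23 h1 k (by rw [hk]; exact hc) with h4 | h4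
  · exact KFacts.FiTTh.BasFi.z0_ne h4
  · rw [hk, ← KFacts.FiTTh.BasFi.e_z] at h4
    have h5 := KFacts.FiTTh.BasFi.e_inj h4
    revert h5
    decide

/-- **Row `Fi23`, order two** -/
theorem row2_fi23 {K : Type*} [Group K] [Finite K] [IsSimpleGroup K] (h : Cfsg.Spor.IsoFi23 K) :
    Cfsg.Agent.H483.Rad23.Row23 2 K := by
  obtain ⟨e⟩ := h
  have : Finite Spor.Fi23 := Finite.of_equiv K e.toEquiv
  exact (noRC_fi23_model.congr e).row

end Fi23

end Cfsg.Agent.H842.RadTwo
end
end
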